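import Cfsg.Agent.Lib.SympFusion78.Singular

/-!
Groups of symplectic type with a centre of order two acting on an alternating space in odd
characteristic: elementary properties and the elementary abelian quotient by `±1`.
-/

set_option autoImplicit false
set_option linter.style.haveILetI false

namespace Cfsg.Agent.Lib.Sym78

open Cfsg.Agent.Lib.SympFusion78
open Subgroup

variable {F : Type*} [Field F] {V : Type*} [AddCommGroup V] [Module F V]

instance finite_end [Finite V] : Finite (Module.End F V) :=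
  Finite.of_injective _ DFunLike.coe_injective

/-- The isometry group. -/
def spSub (ω : LinearMap.BilinForm F V) : Subgroup (Module.End F V)ˣ where
  carrier := {x | ∀ u v, ω ((x : Module.End F V) u) ((x : Module.End F V) v) = ω u v}
  one_mem' := fun u v => rfl
  mul_mem' {a b} ha hb := fun u v => by
    show ω ((a : Module.End F V) ((b : Module.End F V) u)) ((a : Module.End F V) ((b : Module.End F V) v)) = _
    rw [ha, hb]
  inv_mem' {a} ha := fun u v => by
    have h := ha (((a⁻¹ : (Module.End F V)ˣ) : Module.End F V) u) (((a⁻¹ : (Module.End F V)ˣ) : Module.End F V) v)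
    rw [← Module.End.mul_apply, ← Module.End.mul_apply, Units.mul_inv] at h
    exact h.symm

/-- The commutation bit. -/
noncomputable def bR (a b : (Module.End F V)ˣ) : ZMod 2 := by classical exact if a * b = b * a then 0 else 1

/-- The squaring bit. -/
noncomputable def qR (a : (Module.End F V)ˣ) : ZMod 2 := by classical exact if a * a = 1 then 0 else 1

/-- The sign of a bit. -/
def sg (c : ZMod 2) : (Module.End F V)ˣ := if c = 0 then 1 else -1

theorem sg_zero : (sg 0 : (Module.End F V)ˣ) = 1 := if_pos rfl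

theorem sg_one : (sg 1 : (Module.End F V)ˣ) = -1 := if_neg one_ne_zero

theorem sg_add (c d : ZMod 2) : (sg (c + d) : (Module.End F V)ˣ) = sg c * sg d := by
  have h : ∀ c : ZMod 2, c = 0 ∨ c = 1 := by decide
  rcases h c with rfl | rfl <;> rcases h d with rfl | rfl <;>
    simp [sg_zero, sg_one, CharTwo.add_self_eq_zero]

theorem sg_comm (c : ZMod 2) (x : (Module.End F V)ˣ) : sg c * x = x * sg c := by
  unfold sg; split_ifs <;> simp

theorem qR_neg (a : (Module.End F V)ˣ) : qR (-a) = qR a := by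
  classical
  unfold qR; simp only [neg_mul_neg]

theorem bR_neg_left (a b : (Module.End F V)ˣ) : bR (-a) b = bR a b := by
  classical
  unfold bR; simp only [neg_mul, mul_neg, neg_inj]

theorem qR_conj (h a : (Module.End F V)ˣ) : qR (h * a * h⁻¹) = qR a := by
  classical
  unfold qR
  refine if_congr ?_ rfl rfl
  rw [conj_mul, conj_eq_one_iff]

theorem qR_zero_iff {a : (Module.End F V)ˣ} : qR a = 0 ↔ a * a = 1 := by
  classical
  unfold qR; split_ifs with h <;> simp [h]

theorem bR_zero_iff {a b : (Module.End F V)ˣ} : bR a b = 0 ↔ a * b = b * a := by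
  classical
  unfold bR; split_ifs with h <;> simp [h]

/-- A group of symplectic type with centre `±1` acting absolutely irreducibly by isometries. -/
structure Ext (ω : LinearMap.BilinForm F V) (k : ℕ) (R : Subgroup (Module.End F V)ˣ) : Prop where
  two_ne : (2 : F) ≠ 0
  nontriv : Nontrivial V
  alt : ∀ v, ω v v = 0
  nondeg : ∀ v, v ≠ 0 → ∃ w, ω v w ≠ 0
  le : R ≤ spSub ω
  neg : (-1 : (Module.End F V)ˣ) ∈ R
  card : Nat.card R = 2 ^ (1 + 2 * k)
  sq : ∀ a ∈ R, a * a = 1 ∨ a * a = -1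
  comm : ∀ a ∈ R, ∀ b ∈ R, a * b = b * a ∨ a * b = -(b * a)
  center : ∀ a ∈ R, (∀ b ∈ R, a * b = b * a) → a = 1 ∨ a = -1
  scalar : ∀ T : Module.End F V, (∀ a ∈ R, T * (a : Module.End F V) = a * T) →
    ∃ c : F, T = c • 1
  minus : ∀ E : Subgroup (Module.End F V)ˣ, E ≤ R → (∀ x ∈ E, ∀ y ∈ E, x * y = y * x) → (∀ x ∈ E, x * x = 1) →
    Nat.card E < 2 ^ (k + 1)
  dim : Module.finrank F V = 2 ^ k

/-- `±1`. -/
def negs (F : Type*) [Field F] (V : Type*) [AddCommGroup V] [Module F V] : Subgroup (Module.End F V)ˣ where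
  carrier := {x | x = 1 ∨ x = -1}
  one_mem' := Or.inl rfl
  mul_mem' {a b} ha hb := by
    rcases ha with rfl | rfl <;> rcases hb with rfl | rfl <;> simp
  inv_mem' {a} ha := by
    rcases ha with rfl | rfl <;> simp

theorem mem_negs {x : (Module.End F V)ˣ} : x ∈ negs F V ↔ x = 1 ∨ x = -1 := Iff.rfl

instance negs_normal (H : Subgroup (Module.End F V)ˣ) : ((negs F V).subgroupOf H).Normal := by
  constructor
  intro x hx g
  rw [Subgroup.mem_subgroupOf] at hx ⊢
  push_cast
  rcases hx with h | h <;> rw [h]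
  · exact Or.inl (by group)
  · exact Or.inr (by simp)

/-- The projection to the quotient by `±1`. -/
def proj (H : Subgroup (Module.End F V)ˣ) : H →* H ⧸ (negs F V).subgroupOf H := QuotientGroup.mk' _

theorem proj_surjective (H : Subgroup (Module.End F V)ˣ) : Function.Surjective (proj H) :=
  QuotientGroup.mk'_surjective _

theorem proj_eq_iff {H : Subgroup (Module.End F V)ˣ} {x y : H} :
    proj H x = proj H y ↔ (y : (Module.End F V)ˣ) = x ∨ (y : (Module.End F V)ˣ) = -(x : (Module.End F V)ˣ) := by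
  rw [proj, QuotientGroup.mk'_apply, QuotientGroup.mk'_apply, QuotientGroup.eq, Subgroup.mem_subgroupOf]
  push_cast
  rw [mem_negs, inv_mul_eq_one, inv_mul_eq_iff_eq_mul, mul_neg, mul_one]
  exact or_congr eq_comm Iff.rfl

/-- The image of `R`. -/
def bar (R H : Subgroup (Module.End F V)ˣ) : Subgroup (H ⧸ (negs F V).subgroupOf H) := (R.subgroupOf H).map (proj H)

/-- The quadratic form. -/
noncomputable def qbar (R H : Subgroup (Module.End F V)ˣ) (g : H ⧸ (negs F V).subgroupOf H) : ZMod 2 := by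
  classical exact if ∃ x : H, (x : (Module.End F V)ˣ) ∈ R ∧ (x : (Module.End F V)ˣ) * x = 1 ∧ proj H x = g then 0 else 1

/-- The unit `1 + r`. -/
def tau (h2 : (2 : F) ≠ 0) (r : (Module.End F V)ˣ) (hr : r * r = -1) : (Module.End F V)ˣ where
  val := 1 + (r : Module.End F V)
  inv := (2 : F)⁻¹ • (1 - (r : Module.End F V))
  val_inv := by
    have h : (r : Module.End F V) * r = -1 := by rw [← Units.val_mul, hr]; simp
    rw [Algebra.mul_smul_comm, mul_sub, mul_one, add_mul, one_mul, h,
      show (1 : Module.End F V) + r - (r + -1) = 1 + 1 by abel, ← two_smul F (1 : Module.End F V),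
      smul_smul, inv_mul_cancel₀ h2, one_smul]
  inv_val := by
    have h : (r : Module.End F V) * r = -1 := by rw [← Units.val_mul, hr]; simp
    rw [Algebra.smul_mul_assoc, mul_add, mul_one, sub_mul, one_mul, h,
      show (1 : Module.End F V) - r + (r - -1) = 1 + 1 by abel, ← two_smul F (1 : Module.End F V),
      smul_smul, inv_mul_cancel₀ h2, one_smul]

theorem tau_val (h2 : (2 : F) ≠ 0) (r : (Module.End F V)ˣ) (hr : r * r = -1) :
    ((tau h2 r hr : (Module.End F V)ˣ) : Module.End F V) = 1 + r := rfl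

theorem tau_conj_of_comm (h2 : (2 : F) ≠ 0) {r a : (Module.End F V)ˣ} (hr : r * r = -1) (h : r * a = a * r) :
    tau h2 r hr * a * (tau h2 r hr)⁻¹ = a := by
  rw [mul_inv_eq_iff_eq_mul]
  refine Units.ext ?_
  have e : (r : Module.End F V) * a = a * r := by rw [← Units.val_mul, h, Units.val_mul]
  rw [Units.val_mul, Units.val_mul, tau_val, add_mul, mul_add, e, one_mul, mul_one]

theorem tau_conj_of_anti (h2 : (2 : F) ≠ 0) {r a : (Module.End F V)ˣ} (hr : r * r = -1) (h : r * a = -(a * r)) :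
    tau h2 r hr * a * (tau h2 r hr)⁻¹ = r * a := by
  rw [mul_inv_eq_iff_eq_mul]
  refine Units.ext ?_
  have e : (r : Module.End F V) * a = -(a * r) := by
    rw [← Units.val_mul, h, Units.val_neg, Units.val_mul]
  have hr' : (r : Module.End F V) * r = -1 := by rw [← Units.val_mul, hr]; simp
  rw [Units.val_mul, Units.val_mul, Units.val_mul, tau_val, add_mul, mul_add, one_mul, mul_one, e,
    neg_mul, mul_assoc, hr', mul_neg, mul_one, neg_neg]
  abel

/-- A non-zero scalar. -/
def scal (c : Fˣ) : (Module.End F V)ˣ := Units.map (algebraMap F (Module.End F V)).toMonoidHom c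

theorem scal_val (c : Fˣ) : ((scal c : (Module.End F V)ˣ) : Module.End F V) = (c : F) • 1 :=
  Algebra.algebraMap_eq_smul_one _

theorem scal_comm (c : Fˣ) (x : (Module.End F V)ˣ) : scal c * x = x * scal c :=
  Units.ext (Algebra.commutes _ _)

/-- The product of the half of `1 + r` and `1 + r'`. -/
def pairElem (h2 : (2 : F) ≠ 0) (r r' : (Module.End F V)ˣ) (hr : r * r = -1) (hr' : r' * r' = -1) : (Module.End F V)ˣ :=
  scal (Units.mk0 (2 : F)⁻¹ (inv_ne_zero h2)) * (tau h2 r hr * tau h2 r' hr')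

theorem pairElem_conj (h2 : (2 : F) ≠ 0) {r r' : (Module.End F V)ˣ} (hr : r * r = -1) (hr' : r' * r' = -1) (a : (Module.End F V)ˣ) :
    pairElem h2 r r' hr hr' * a * (pairElem h2 r r' hr hr')⁻¹ =
      tau h2 r hr * (tau h2 r' hr' * a * (tau h2 r' hr')⁻¹) * (tau h2 r hr)⁻¹ := by
  unfold pairElem
  set t := tau h2 r hr * tau h2 r' hr' with ht
  set s := (scal (Units.mk0 (2 : F)⁻¹ (inv_ne_zero h2)) : (Module.End F V)ˣ)
  calc s * t * a * (s * t)⁻¹ = s * (t * a * t⁻¹) * s⁻¹ := by group
    _ = t * a * t⁻¹ := by rw [scal_comm, mul_inv_cancel_right]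
    _ = _ := by rw [ht]; group

namespace Ext

variable {ω : LinearMap.BilinForm F V} {k : ℕ} {R : Subgroup (Module.End F V)ˣ} (D : Ext ω k R)
include D

theorem neg_ne_one : (-1 : (Module.End F V)ˣ) ≠ 1 := by
  intro h
  obtain ⟨v, hv⟩ := @exists_ne V D.nontriv 0
  have e := congrArg (fun x : (Module.End F V)ˣ => (x : Module.End F V) v) h
  have e' : -v = v := e
  have : (2 : F) • v = 0 := by rw [two_smul]; nth_rewrite 1 [← e']; exact neg_add_cancel v
  exact hv ((smul_eq_zero.mp this).resolve_left D.two_ne)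

theorem ne_neg (x : (Module.End F V)ˣ) : x ≠ -x := fun h => D.neg_ne_one (by
  have := congrArg (fun y => y * x⁻¹) h
  simpa using this.symm)

theorem sg_inj {c d : ZMod 2} (h : (sg c : (Module.End F V)ˣ) = sg d) : c = d := by
  have hc : ∀ c : ZMod 2, c = 0 ∨ c = 1 := by decide
  rcases hc c with rfl | rfl <;> rcases hc d with rfl | rfl
  · rfl
  · rw [sg_zero, sg_one] at h; exact absurd h.symm D.neg_ne_one
  · rw [sg_zero, sg_one] at h; exact absurd h D.neg_ne_one
  · rfl

theorem sq_eq {a : (Module.End F V)ˣ} (ha : a ∈ R) : a * a = sg (qR a) := by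
  classical
  unfold qR
  rcases D.sq a ha with h | h
  · rw [if_pos h, sg_zero, h]
  · rw [if_neg (fun e => D.neg_ne_one (h.symm.trans e)), sg_one, h]

theorem comm_eq {a b : (Module.End F V)ˣ} (ha : a ∈ R) (hb : b ∈ R) : a * b = sg (bR a b) * (b * a) := by
  classical
  unfold bR
  split_ifs with h
  · rw [sg_zero, one_mul, h]
  · rw [sg_one, neg_one_mul]
    exact (D.comm a ha b hb).resolve_left h

theorem neg_mem {a : (Module.End F V)ˣ} (ha : a ∈ R) : -a ∈ R := by
  rw [← neg_one_mul]; exact mul_mem D.neg ha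

theorem sg_mem (c : ZMod 2) : (sg c : (Module.End F V)ˣ) ∈ R := by
  unfold sg; split_ifs
  · exact R.one_mem
  · exact D.neg

theorem bR_mul {a a' b : (Module.End F V)ˣ} (ha : a ∈ R) (ha' : a' ∈ R) (hb : b ∈ R) :
    bR (a * a') b = bR a b + bR a' b := by
  apply D.sg_inj
  have h : a * a' * b = sg (bR a b) * sg (bR a' b) * (b * (a * a')) := by
    calc a * a' * b = a * (a' * b) := mul_assoc _ _ _
      _ = a * (sg (bR a' b) * (b * a')) := by rw [← D.comm_eq ha' hb]
      _ = sg (bR a' b) * (a * b) * a' := by rw [← mul_assoc a, ← sg_comm]; group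
      _ = sg (bR a' b) * (sg (bR a b) * (b * a)) * a' := by rw [← D.comm_eq ha hb]
      _ = sg (bR a b) * sg (bR a' b) * (b * (a * a')) := by
        rw [← mul_assoc (sg (bR a' b) : (Module.End F V)ˣ), sg_comm (bR a' b) (sg (bR a b))]; group
  rw [D.comm_eq (mul_mem ha ha') hb] at h
  rw [sg_add]
  exact mul_right_cancel h

theorem bR_comm {a b : (Module.End F V)ˣ} (_ha : a ∈ R) (_hb : b ∈ R) : bR a b = bR b a := by
  classical
  unfold bR
  exact if_congr eq_comm rfl rfl

theorem qR_mul {a b : (Module.End F V)ˣ} (ha : a ∈ R) (hb : b ∈ R) : qR (a * b) = qR a + qR b + bR b a := by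
  apply D.sg_inj
  rw [← D.sq_eq (mul_mem ha hb), sg_add, sg_add]
  calc a * b * (a * b) = a * (b * a) * b := by group
    _ = a * (sg (bR b a) * (a * b)) * b := by rw [← D.comm_eq hb ha]
    _ = sg (bR b a) * ((a * a) * (b * b)) := by rw [← mul_assoc a, ← sg_comm]; group
    _ = _ := by rw [D.sq_eq ha, D.sq_eq hb, sg_comm]

theorem qR_one_iff {a : (Module.End F V)ˣ} (ha : a ∈ R) : qR a = 1 ↔ a * a = -1 := by
  classical
  unfold qR
  rcases D.sq a ha with h | h
  · rw [if_pos h, h]; simpa using D.neg_ne_one.symm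
  · rw [if_neg (fun e => D.neg_ne_one (h.symm.trans e)), h]; simp

theorem bR_one_iff {a b : (Module.End F V)ˣ} (ha : a ∈ R) (hb : b ∈ R) : bR a b = 1 ↔ a * b = -(b * a) := by
  classical
  unfold bR
  split_ifs with h
  · refine ⟨fun e => absurd e zero_ne_one, fun e => absurd (h.symm.trans e) (D.ne_neg _)⟩
  · exact ⟨fun _ => (D.comm a ha b hb).resolve_left h, fun _ => rfl⟩

section Quotient

variable {H : Subgroup (Module.End F V)ˣ} (hH : R ≤ H)
include hH

theorem qbar_proj {x : H} (hx : (x : (Module.End F V)ˣ) ∈ R) : qbar R H (proj H x) = qR (x : (Module.End F V)ˣ) := by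
  classical
  unfold qbar qR
  refine if_congr ⟨?_, fun h => ⟨x, hx, h, rfl⟩⟩ rfl rfl
  rintro ⟨y, -, hy, e⟩
  rcases proj_eq_iff.mp e with h | h <;> rw [h]
  · exact hy
  · rw [neg_mul_neg]; exact hy

theorem mem_bar {x : H} : proj H x ∈ bar R H ↔ (x : (Module.End F V)ˣ) ∈ R := by
  refine ⟨?_, fun h => ⟨x, h, rfl⟩⟩
  rintro ⟨y, hy, e⟩
  rcases proj_eq_iff.mp e with h | h <;> rw [h]
  · exact hy
  · exact D.neg_mem hy

theorem pol_proj {x y : H} (hx : (x : (Module.End F V)ˣ) ∈ R) (hy : (y : (Module.End F V)ˣ) ∈ R) :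
    pol (qbar R H) (proj H x) (proj H y) = bR (x : (Module.End F V)ˣ) y := by
  unfold pol
  rw [← map_mul, D.qbar_proj hH (mul_mem hx hy : ((x * y : H) : (Module.End F V)ˣ) ∈ R), D.qbar_proj hH hx,
    D.qbar_proj hH hy, Subgroup.coe_mul, D.qR_mul hx hy, D.bR_comm hy hx]
  have : ∀ p r s : ZMod 2, p + r + s + p + r = s := by decide
  exact this _ _ _

theorem normalizer_iff [Finite V] {x : H} :
    proj H x ∈ normalizer (bar R H : Set (H ⧸ (negs F V).subgroupOf H)) ↔
      (x : (Module.End F V)ˣ) ∈ normalizer (R : Set (Module.End F V)ˣ) := by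
  constructor
  · intro h
    refine Subgroup.mem_normalizer_fintype fun a ha => ?_
    have e := (mem_normalizer_iff.mp h (proj H ⟨a, hH ha⟩)).mp ⟨⟨a, hH ha⟩, ha, rfl⟩
    rw [← map_inv, ← map_mul, ← map_mul, D.mem_bar hH] at e
    exact e
  · intro h
    refine Subgroup.mem_normalizer_fintype fun a ha => ?_
    obtain ⟨y, hy, rfl⟩ := ha
    show proj H x * proj H y * (proj H x)⁻¹ ∈ bar R H
    rw [← map_inv, ← map_mul, ← map_mul, D.mem_bar hH]
    push_cast
    exact (mem_normalizer_iff.mp h _).mp hy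

theorem quad [Finite V] : Quad (bar R H) (qbar R H) where
  sq := by
    rintro _ ⟨x, hx, rfl⟩
    replace hx : (x : (Module.End F V)ˣ) ∈ R := hx
    rw [← map_mul, ← map_one (proj H), proj_eq_iff]
    push_cast
    rcases D.sq _ hx with h | h <;> rw [h]
    · exact Or.inl rfl
    · exact Or.inr (neg_neg 1).symm
  add := by
    rintro _ ⟨x, hx, rfl⟩ _ ⟨y, hy, rfl⟩ _ ⟨z, hz, rfl⟩
    replace hx : (x : (Module.End F V)ˣ) ∈ R := hx
    replace hy : (y : (Module.End F V)ˣ) ∈ R := hy
    replace hz : (z : (Module.End F V)ˣ) ∈ R := hz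
    rw [← map_mul, D.pol_proj hH (mul_mem hx hy : ((x * y : H) : (Module.End F V)ˣ) ∈ R) hz, D.pol_proj hH hx hz,
      D.pol_proj hH hy hz, Subgroup.coe_mul, D.bR_mul hx hy hz]
  nondeg := by
    rintro _ ⟨x, hx, rfl⟩ h1
    replace hx : (x : (Module.End F V)ˣ) ∈ R := hx
    by_contra! h
    refine h1 ?_
    rw [← map_one (proj H), proj_eq_iff]
    have hc : ∀ b ∈ R, (x : (Module.End F V)ˣ) * b = b * x := fun b hb => bR_zero_iff.mp (by
      have e := h (proj H ⟨b, hH hb⟩) ⟨⟨b, hH hb⟩, hb, rfl⟩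
      rwa [D.pol_proj hH hx (hb : ((⟨b, hH hb⟩ : H) : (Module.End F V)ˣ) ∈ R)] at e)
    rcases D.center _ hx hc with e | e <;> rw [e]
    · exact Or.inl rfl
    · exact Or.inr (neg_neg 1).symm
  inv := by
    intro h hh a ha
    obtain ⟨g, rfl⟩ := proj_surjective H h
    obtain ⟨x, hx, rfl⟩ := ha
    replace hx : (x : (Module.End F V)ˣ) ∈ R := hx
    have hg := (D.normalizer_iff hH).mp hh
    have hgx : ((g * x * g⁻¹ : H) : (Module.End F V)ˣ) ∈ R := by
      push_cast; exact (mem_normalizer_iff.mp hg _).mp hx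
    rw [← map_inv, ← map_mul, ← map_mul, D.qbar_proj hH hgx, D.qbar_proj hH hx]
    push_cast
    exact qR_conj _ _

theorem card_bar [Finite V] : Nat.card (bar R H) = 2 ^ (2 * k) := by
  have h1 := ((proj H).subgroupMap (R.subgroupOf H)).ker.card_mul_index
  rw [index_ker, MonoidHom.range_eq_top_of_surjective _
    ((proj H).subgroupMap_surjective (R.subgroupOf H)), Subgroup.card_top,
    Nat.card_congr (Subgroup.subgroupOfEquivOfLe hH).toEquiv, D.card, pow_add, pow_one] at h1
  have hk : Nat.card ((proj H).subgroupMap (R.subgroupOf H)).ker = 2 := by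
    refine le_antisymm ?_ ?_
    · let f : ((proj H).subgroupMap (R.subgroupOf H)).ker → ({1, -1} : Set (Module.End F V)ˣ) := fun x =>
        ⟨(((x : R.subgroupOf H) : H) : (Module.End F V)ˣ), by
          have e : proj H 1 = proj H ((x : R.subgroupOf H) : H) :=
            (map_one _).trans (congrArg Subtype.val x.2).symm
          rcases proj_eq_iff.mp e with h | h <;> simp [h]⟩
      refine le_trans (Nat.card_le_card_of_injective f fun x y e =>
        Subtype.ext (Subtype.ext (Subtype.ext (congrArg (fun z : ({1, -1} : Set (Module.End F V)ˣ) => (z : (Module.End F V)ˣ)) e)))) ?_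
      rw [Nat.card_coe_set_eq]
      exact (Set.ncard_insert_le _ _).trans (by rw [Set.ncard_singleton])
    · let f : Fin 2 → ((proj H).subgroupMap (R.subgroupOf H)).ker := ![1, ⟨⟨⟨-1, hH D.neg⟩, D.neg⟩,
        Subtype.ext (((proj H).map_one).symm.trans (proj_eq_iff.mpr (Or.inr rfl))).symm⟩]
      have hf : Function.Injective f := by
        intro i j e
        have e' := congrArg (fun z : ((proj H).subgroupMap (R.subgroupOf H)).ker =>
          (((z : R.subgroupOf H) : H) : (Module.End F V)ˣ)) e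
        fin_cases i <;> fin_cases j
        · rfl
        · exact absurd e'.symm D.neg_ne_one
        · exact absurd e' D.neg_ne_one
        · rfl
      have := Nat.card_le_card_of_injective f hf
      rwa [Nat.card_fin] at this
  rw [hk] at h1
  exact Nat.eq_of_mul_eq_mul_left two_pos h1

theorem exists_rep [Finite V] (f : (Module.End F V)ˣ → ZMod 2)
    (hf : ∀ a ∈ R, ∀ b ∈ R, f (a * b) = f a + f b) (hneg : ∀ a ∈ R, f (-a) = f a) :
    ∃ b ∈ R, ∀ a ∈ R, bR b a = f a := by
  classical
  have h01 : ∀ c : ZMod 2, c = 0 ∨ c = 1 := by decide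
  by_cases hall : ∀ a ∈ R, f a = 0
  · exact ⟨1, R.one_mem, fun a ha => by rw [bR_zero_iff.mpr (by simp), hall a ha]⟩
  push Not at hall
  obtain ⟨a₀, ha₀, hfa⟩ := hall
  have hfa₀ : f a₀ = 1 := (h01 _).resolve_left hfa
  have hQ := D.quad hH
  let K₀ : Subgroup (Module.End F V)ˣ :=
    { carrier := {a | a ∈ R ∧ f a = 0}
      one_mem' := ⟨R.one_mem, by simpa using hf 1 R.one_mem 1 R.one_mem⟩
      mul_mem' := fun {a b} ha hb => ⟨mul_mem ha.1 hb.1, by rw [hf a ha.1 b hb.1, ha.2, hb.2]; rfl⟩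
      inv_mem' := fun {a} ha => ⟨inv_mem ha.1, by
        have h := hf a ha.1 a⁻¹ (inv_mem ha.1)
        have h1 : f 1 = 0 := by simpa using hf 1 R.one_mem 1 R.one_mem
        rw [mul_inv_cancel, h1, ha.2, zero_add] at h
        exact h.symm⟩ }
  let K : Subgroup (H ⧸ (negs F V).subgroupOf H) := (K₀.subgroupOf H).map (proj H)
  have hK : K ≤ bar R H := Subgroup.map_mono fun x hx => hx.1
  have hKmem : ∀ {x : H}, (x : (Module.End F V)ˣ) ∈ R → (proj H x ∈ K ↔ f (x : (Module.End F V)ˣ) = 0) := by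
    intro x hx
    refine ⟨?_, fun h => ⟨x, ⟨hx, h⟩, rfl⟩⟩
    rintro ⟨y, hy, e⟩
    replace hy : (y : (Module.End F V)ˣ) ∈ K₀ := hy
    rcases proj_eq_iff.mp e with h | h <;> rw [h]
    · exact hy.2
    · rw [hneg _ hy.1]; exact hy.2
  have hne : proj H ⟨a₀, hH ha₀⟩ ∉ K := fun h => hfa ((hKmem (ha₀ : _ ∈ R)).mp h)
  obtain ⟨v, hv, hva⟩ := hQ.exists_sep hK ⟨⟨a₀, hH ha₀⟩, ha₀, rfl⟩ hne
  obtain ⟨b, hb, hbv⟩ := hv.1
  replace hb : (b : (Module.End F V)ˣ) ∈ R := hb
  refine ⟨b, hb, fun a ha => ?_⟩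
  rw [← hbv, D.pol_proj hH hb (ha₀ : ((⟨a₀, hH ha₀⟩ : H) : (Module.End F V)ˣ) ∈ R)] at hva
  rcases h01 (f a) with e | e
  · have := hv.2 _ ((hKmem (x := ⟨a, hH ha⟩) ha).mpr e)
    rw [← hbv, D.pol_proj hH hb (ha : ((⟨a, hH ha⟩ : H) : (Module.End F V)ˣ) ∈ R)] at this
    rw [this, e]
  · have h0 : f (a * a₀) = 0 := by rw [hf a ha a₀ ha₀, e, hfa₀]; rfl
    have := hv.2 _ ((hKmem (x := ⟨a * a₀, hH (mul_mem ha ha₀)⟩) (mul_mem ha ha₀)).mpr h0)
    rw [← hbv, D.pol_proj hH hb (mul_mem ha ha₀ : ((⟨a * a₀, hH (mul_mem ha ha₀)⟩ : H) : (Module.End F V)ˣ) ∈ R),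
      show bR (b : (Module.End F V)ˣ) ((⟨a * a₀, hH (mul_mem ha ha₀)⟩ : H) : (Module.End F V)ˣ) =
        bR (b : (Module.End F V)ˣ) (a * a₀) from rfl, D.bR_comm hb (mul_mem ha ha₀), D.bR_mul ha ha₀ hb, D.bR_comm ha₀ hb] at this
    rw [show bR (b : (Module.End F V)ˣ) a₀ = 1 from hva] at this
    rw [D.bR_comm hb ha, e]
    exact CharTwo.add_eq_zero.mp this

end Quotient

theorem anti_of_ne {a : (Module.End F V)ˣ} (ha : a ∈ R) (h1 : a ≠ 1) (h2 : a ≠ -1) :
    ∃ u ∈ R, u * a = -(a * u) := by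
  by_contra! h
  have := D.center a ha fun b hb => by
    rcases D.comm b hb a ha with e | e
    · exact e.symm
    · exact absurd e (h b hb)
  rcases this with e | e
  · exact h1 e
  · exact h2 e

theorem form_eq {a : (Module.End F V)ˣ} (ha : a ∈ R) (u v : V) :
    ω ((a : Module.End F V) u) v = ω u (((a⁻¹ : (Module.End F V)ˣ) : Module.End F V) v) := by
  conv_lhs => rw [show v = (a : Module.End F V) (((a⁻¹ : (Module.End F V)ˣ) : Module.End F V) v) from by
    rw [← Module.End.mul_apply, Units.mul_inv]; rfl]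
  exact D.le ha _ _

/-- `α + β r` scales the form. -/
theorem form_combination {r : (Module.End F V)ˣ} (hr : r ∈ R) (hr2 : r * r = -1) (α β : F) (u v : V) :
    ω ((α • (1 : Module.End F V) + β • (r : Module.End F V)) u)
      ((α • (1 : Module.End F V) + β • (r : Module.End F V)) v) = (α * α + β * β) * ω u v := by
  have e : ∀ x y, ω ((r : Module.End F V) x) y = -ω x ((r : Module.End F V) y) := by
    intro x y
    rw [D.form_eq hr, show r⁻¹ = -r from inv_eq_of_mul_eq_one_right (by rw [mul_neg, hr2, neg_neg]),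
      Units.val_neg, LinearMap.neg_apply, map_neg]
  have e' : ω ((r : Module.End F V) u) ((r : Module.End F V) v) = ω u v := D.le hr u v
  simp only [LinearMap.add_apply, LinearMap.smul_apply, Module.End.one_apply, map_add, map_smul,
    smul_eq_mul]
  rw [e', e u v]
  ring

theorem tau_form {r : (Module.End F V)ˣ} (hr : r ∈ R) (hr2 : r * r = -1) (u v : V) :
    ω ((tau D.two_ne r hr2 : (Module.End F V)ˣ).val u) ((tau D.two_ne r hr2 : (Module.End F V)ˣ).val v) = 2 * ω u v := by
  rw [tau_val, show (1 : Module.End F V) + r = (1 : F) • 1 + (1 : F) • (r : Module.End F V) by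
    rw [one_smul, one_smul], D.form_combination hr hr2]
  norm_num

theorem pairElem_mem {r r' : (Module.End F V)ˣ} (hr : r ∈ R) (hr' : r' ∈ R) (h : r * r = -1) (h' : r' * r' = -1) :
    pairElem D.two_ne r r' h h' ∈ spSub ω := by
  intro u v
  show ω ((scal _ : (Module.End F V)ˣ).val ((tau D.two_ne r h : (Module.End F V)ˣ).val ((tau D.two_ne r' h' : (Module.End F V)ˣ).val u)))
    ((scal _ : (Module.End F V)ˣ).val ((tau D.two_ne r h : (Module.End F V)ˣ).val ((tau D.two_ne r' h' : (Module.End F V)ˣ).val v))) = _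
  rw [scal_val]
  simp only [LinearMap.smul_apply, Module.End.one_apply, map_smul, smul_eq_mul]
  rw [D.tau_form hr h, D.tau_form hr' h', Units.val_mk0]
  field_simp [D.two_ne]

theorem pairElem_normalizer [Finite V] {r r' : (Module.End F V)ˣ} (hr : r ∈ R) (hr' : r' ∈ R) (h : r * r = -1)
    (h' : r' * r' = -1) : pairElem D.two_ne r r' h h' ∈ normalizer (R : Set (Module.End F V)ˣ) := by
  have ht : ∀ r (_ : r ∈ R) (h : r * r = -1), ∀ a ∈ R,
      tau D.two_ne r h * a * (tau D.two_ne r h)⁻¹ ∈ R := by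
    intro r hr h a ha
    rcases D.comm r hr a ha with e | e
    · rw [tau_conj_of_comm D.two_ne h e]; exact ha
    · rw [tau_conj_of_anti D.two_ne h e]; exact mul_mem hr ha
  refine Subgroup.mem_normalizer_fintype fun a ha => ?_
  rw [pairElem_conj]
  exact ht r hr h _ (ht r' hr' h' a ha)

end Ext

end Cfsg.Agent.Lib.Sym78
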