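import Cfsg.Agent.Lib.Sym78.Fusion

/-!
The eigenspace decomposition of a non-central involution in a group of symplectic type, and the
group of symplectic type induced on one eigenspace.
-/

set_option autoImplicit false
set_option linter.style.haveILetI false

namespace Cfsg.Agent.Lib.Sym78

open Cfsg.Agent.Lib.SympFusion78
open Subgroup

variable {F : Type*} [Field F] {V : Type*} [AddCommGroup V] [Module F V]

variable {W : Type*} [AddCommGroup W] [Module F W]

theorem u_uinv (u : (Module.End F V)ˣ) (x : V) : (u : Module.End F V) (((u⁻¹ : (Module.End F V)ˣ) : Module.End F V) x) = x := by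
  rw [← Module.End.mul_apply, Units.mul_inv, Module.End.one_apply]

theorem uinv_u (u : (Module.End F V)ˣ) (x : V) : ((u⁻¹ : (Module.End F V)ˣ) : Module.End F V) ((u : Module.End F V) x) = x := by
  rw [← Module.End.mul_apply, Units.inv_mul, Module.End.one_apply]

/-- A non-central involution with an element anticommuting with it. -/
structure Split (R : Subgroup (Module.End F V)ˣ) (s u : (Module.End F V)ˣ) (ι : W →ₗ[F] V) : Prop where
  two_ne : (2 : F) ≠ 0
  mem : s ∈ R
  umem : u ∈ R
  sq : s * s = 1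
  anti : u * s = -(s * u)
  usq : u * u = 1 ∨ u * u = -1
  inj : Function.Injective ι
  fix : ∀ y, (s : Module.End F V) (ι y) = ι y
  surj : ∀ x, (s : Module.End F V) x = x → ∃ y, ι y = x

namespace Split

variable {R : Subgroup (Module.End F V)ˣ} {s u : (Module.End F V)ˣ} {ι : W →ₗ[F] V} (S : Split R s u ι)
include S

theorem s_s (x : V) : (s : Module.End F V) ((s : Module.End F V) x) = x := by
  rw [← Module.End.mul_apply, ← Units.val_mul, S.sq, Units.val_one, Module.End.one_apply]

theorem u_s (x : V) : (u : Module.End F V) ((s : Module.End F V) x) = -(s : Module.End F V) ((u : Module.End F V) x) := by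
  rw [← Module.End.mul_apply, ← Units.val_mul, S.anti, Units.val_neg, LinearMap.neg_apply, Units.val_mul,
    Module.End.mul_apply]

/-- A left inverse of the inclusion. -/
noncomputable def linv : V →ₗ[F] W :=
  (LinearMap.exists_leftInverse_of_injective ι (LinearMap.ker_eq_bot.mpr S.inj)).choose

theorem linv_ι (y : W) : S.linv (ι y) = y :=
  LinearMap.congr_fun (LinearMap.exists_leftInverse_of_injective ι (LinearMap.ker_eq_bot.mpr S.inj)).choose_spec y

/-- The projection to the fixed space. -/
noncomputable def P : V →ₗ[F] W := S.linv ∘ₗ ((2 : F)⁻¹ • (1 + (s : Module.End F V)))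

theorem coe_P (x : V) : ι (S.P x) = (2 : F)⁻¹ • (x + (s : Module.End F V) x) := by
  obtain ⟨y, hy⟩ := S.surj ((2 : F)⁻¹ • (x + (s : Module.End F V) x)) (by
    rw [map_smul, map_add, S.s_s, add_comm])
  show ι (S.linv ((2 : F)⁻¹ • (x + (s : Module.End F V) x))) = _
  rw [← hy, S.linv_ι]

theorem half (x : V) : (2 : F)⁻¹ • (x + x) = x := by
  rw [← two_smul F x, smul_smul, inv_mul_cancel₀ S.two_ne, one_smul]

theorem P_coe (y : W) : S.P (ι y) = y :=
  S.inj (by rw [coe_P, S.fix, S.half])

theorem s_U (y : W) : (s : Module.End F V) ((u : Module.End F V) (ι y)) = -((u : Module.End F V) (ι y)) := by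
  conv_rhs => rw [← S.fix y, S.u_s, neg_neg]

theorem uinv_smul : ∃ e : F, ((u⁻¹ : (Module.End F V)ˣ) : Module.End F V) = e • (u : Module.End F V) := by
  rcases S.usq with e | e
  · exact ⟨1, by rw [inv_eq_of_mul_eq_one_right e, one_smul]⟩
  · exact ⟨-1, by rw [inv_eq_of_mul_eq_one_right (show u * -u = 1 by rw [mul_neg, e, neg_neg]),
      Units.val_neg, neg_one_smul]⟩

theorem P_U (y : W) : S.P ((u : Module.End F V) (ι y)) = 0 :=
  S.inj (by rw [coe_P, S.s_U, add_neg_cancel, smul_zero, map_zero])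

theorem P_Uinv (y : W) : S.P (((u⁻¹ : (Module.End F V)ˣ) : Module.End F V) (ι y)) = 0 := by
  obtain ⟨e, he⟩ := S.uinv_smul
  rw [he, LinearMap.smul_apply, map_smul, P_U, smul_zero]

theorem P_UinvU (y : W) : S.P (((u⁻¹ : (Module.End F V)ˣ) : Module.End F V) ((u : Module.End F V) (ι y))) = y := by
  rw [uinv_u, P_coe]

theorem dec (x : V) : ι (S.P x) +
    (u : Module.End F V) (ι (S.P (((u⁻¹ : (Module.End F V)ˣ) : Module.End F V) x))) = x := by
  obtain ⟨e, he⟩ := S.uinv_smul
  have hx : (u : Module.End F V) (e • (u : Module.End F V) x) = x := by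
    rw [← LinearMap.smul_apply, ← he, u_uinv]
  rw [coe_P, coe_P, he, LinearMap.smul_apply, map_smul (u : Module.End F V), map_add (u : Module.End F V),
    S.u_s, hx, ← smul_add, show x + (s : Module.End F V) x + (x + -(s : Module.End F V) x) = x + x by abel, S.half]

/-- Two maps agree if they agree on both eigenspaces. -/
theorem ext_of {M : Type*} [AddCommGroup M] [Module F M] {f g : V →ₗ[F] M}
    (h1 : ∀ y : W, f (ι y) = g (ι y))
    (h2 : ∀ y : W, f ((u : Module.End F V) (ι y)) = g ((u : Module.End F V) (ι y))) (x : V) : f x = g x := by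
  rw [← S.dec x, map_add, map_add, h1, h2]

/-- The block diagonal map. -/
noncomputable def blkEnd : Module.End F W × Module.End F W →* Module.End F V where
  toFun p := ι ∘ₗ p.1 ∘ₗ S.P +
    (u : Module.End F V) ∘ₗ ι ∘ₗ p.2 ∘ₗ S.P ∘ₗ ((u⁻¹ : (Module.End F V)ˣ) : Module.End F V)
  map_one' := LinearMap.ext fun x => S.dec x
  map_mul' p q := LinearMap.ext fun x => by
    refine S.ext_of (fun y => ?_) (fun y => ?_) x <;>
      simp only [Prod.fst_mul, Prod.snd_mul, Module.End.mul_apply, LinearMap.add_apply, LinearMap.comp_apply,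
        map_add, map_zero, P_coe, P_U, P_Uinv, P_UinvU, 
        add_zero, zero_add]

theorem blkEnd_coe (p : Module.End F W × Module.End F W) (y : W) :
    S.blkEnd p (ι y) = ι (p.1 y) := by
  simp only [blkEnd, MonoidHom.coe_mk, OneHom.coe_mk, LinearMap.add_apply, LinearMap.comp_apply,
    P_coe, P_Uinv, map_zero, add_zero]

theorem blkEnd_U (p : Module.End F W × Module.End F W) (y : W) :
    S.blkEnd p ((u : Module.End F V) (ι y)) = (u : Module.End F V) (ι (p.2 y)) := by
  simp only [blkEnd, MonoidHom.coe_mk, OneHom.coe_mk, LinearMap.add_apply, LinearMap.comp_apply,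
    P_U, P_UinvU, map_zero, zero_add]

/-- The block diagonal units. -/
noncomputable def Blk : (Module.End F W)ˣ × (Module.End F W)ˣ →* (Module.End F V)ˣ :=
  (Units.map S.blkEnd).comp (MulEquiv.prodUnits.symm.toMonoidHom)

theorem Blk_coe (a c : (Module.End F W)ˣ) (y : W) :
    (S.Blk (a, c) : Module.End F V) (ι y) = ι ((a : Module.End F W) y) := S.blkEnd_coe _ y

theorem Blk_U (a c : (Module.End F W)ˣ) (y : W) :
    (S.Blk (a, c) : Module.End F V) ((u : Module.End F V) (ι y)) = (u : Module.End F V) (ι ((c : Module.End F W) y)) :=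
  S.blkEnd_U _ y

/-- Units agree if they agree on both eigenspaces. -/
theorem ext_unit {f g : (Module.End F V)ˣ} (h1 : ∀ y : W, (f : Module.End F V) (ι y) = (g : Module.End F V) (ι y))
    (h2 : ∀ y : W, (f : Module.End F V) ((u : Module.End F V) (ι y)) = (g : Module.End F V) ((u : Module.End F V) (ι y))) :
    f = g :=
  Units.ext (LinearMap.ext (S.ext_of h1 h2))

theorem Blk_inj {a c a' c' : (Module.End F W)ˣ} (h : S.Blk (a, c) = S.Blk (a', c')) : a = a' ∧ c = c' := by
  constructor <;> refine Units.ext (LinearMap.ext fun y => S.inj ?_)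
  · rw [← S.Blk_coe a c, ← S.Blk_coe a' c', h]
  · have := S.Blk_U a c y
    rw [h, S.Blk_U] at this
    have := congrArg ((u⁻¹ : (Module.End F V)ˣ) : Module.End F V) this
    rw [uinv_u, uinv_u] at this
    exact this.symm

theorem Blk_injective : Function.Injective S.Blk := fun _ _ h =>
  Prod.ext (S.Blk_inj h).1 (S.Blk_inj h).2

theorem Blk_one_neg : S.Blk (1, -1) = s :=
  S.ext_unit (fun y => by rw [Blk_coe]; exact (S.fix y).symm)
    (fun y => by
      rw [Blk_U, S.s_U, Units.val_neg, Units.val_one, LinearMap.neg_apply, Module.End.one_apply,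
        map_neg, map_neg])

theorem Blk_neg (a c : (Module.End F W)ˣ) : S.Blk (-a, -c) = -S.Blk (a, c) :=
  S.ext_unit
    (fun y => by rw [Units.val_neg, LinearMap.neg_apply, Blk_coe, Blk_coe, Units.val_neg, LinearMap.neg_apply, map_neg])
    (fun y => by rw [Units.val_neg, LinearMap.neg_apply, Blk_U, Blk_U, Units.val_neg, LinearMap.neg_apply,
      map_neg, map_neg])

theorem Blk_comm (p : (Module.End F W)ˣ × (Module.End F W)ˣ) : S.Blk p * s = s * S.Blk p := by
  rw [show S.Blk p * s = S.Blk p * S.Blk (1, -1) from (congrArg (S.Blk p * ·) S.Blk_one_neg).symm,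
    show s * S.Blk p = S.Blk (1, -1) * S.Blk p from (congrArg (· * S.Blk p) S.Blk_one_neg).symm,
    ← map_mul, ← map_mul]
  exact congrArg _ (Prod.ext (by simp) (by simp))

theorem Blk_swap (a c : (Module.End F W)ˣ) : u * S.Blk (a, c) * u⁻¹ = S.Blk (c, a) := by
  obtain ⟨e, he⟩ := S.uinv_smul
  refine S.ext_unit (fun y => ?_) (fun y => ?_) <;>
    rw [Units.val_mul, Units.val_mul, Module.End.mul_apply, Module.End.mul_apply]
  · rw [he, LinearMap.smul_apply, map_smul, Blk_U, Blk_coe, ← map_smul (u : Module.End F V),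
      map_smul (u : Module.End F V) e, ← LinearMap.smul_apply, ← he, u_uinv]
  · rw [uinv_u, Blk_coe, Blk_U]

theorem uinv_conj_comm {g : (Module.End F V)ˣ} (hg : g * s = s * g) : u⁻¹ * g * u * s = s * (u⁻¹ * g * u) := by
  have h : u⁻¹ * s = -(s * u⁻¹) := by
    rw [inv_mul_eq_iff_eq_mul, mul_neg, ← mul_assoc, S.anti, neg_mul, neg_neg, mul_inv_cancel_right]
  calc u⁻¹ * g * u * s = u⁻¹ * g * (u * s) := mul_assoc _ _ _
    _ = -(u⁻¹ * (g * s) * u) := by rw [S.anti, mul_neg]; simp only [mul_assoc]
    _ = -(u⁻¹ * s * g * u) := by rw [hg]; simp only [mul_assoc]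
    _ = _ := by rw [h, neg_mul, neg_mul, neg_neg]; simp only [mul_assoc]

theorem exists_res {g : (Module.End F V)ˣ} (hg : g * s = s * g) :
    ∃ a : (Module.End F W)ˣ, ∀ y : W, ι ((a : Module.End F W) y) = (g : Module.End F V) (ι y) := by
  have key : ∀ {g : (Module.End F V)ˣ}, g * s = s * g → ∀ y : W,
      ι (S.P ((g : Module.End F V) (ι y))) = (g : Module.End F V) (ι y) := by
    intro g hg y
    have e : (s : Module.End F V) ((g : Module.End F V) (ι y)) = (g : Module.End F V) (ι y) := by
      rw [← Module.End.mul_apply, ← Units.val_mul, ← hg, Units.val_mul, Module.End.mul_apply, S.fix]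
    rw [coe_P, e, S.half]
  have hg' : g⁻¹ * s = s * g⁻¹ := (Commute.inv_left (show Commute g s from hg)).eq
  refine ⟨⟨S.P ∘ₗ (g : Module.End F V) ∘ₗ ι,
    S.P ∘ₗ ((g⁻¹ : (Module.End F V)ˣ) : Module.End F V) ∘ₗ ι, ?_, ?_⟩, key hg⟩
  · refine LinearMap.ext fun y => ?_
    show S.P ((g : Module.End F V) (ι (S.P (((g⁻¹ : (Module.End F V)ˣ) : Module.End F V) (ι y))))) = y
    rw [key hg', u_uinv, P_coe]
  · refine LinearMap.ext fun y => ?_
    show S.P (((g⁻¹ : (Module.End F V)ˣ) : Module.End F V) (ι (S.P ((g : Module.End F V) (ι y))))) = y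
    rw [key hg, uinv_u, P_coe]

theorem exists_blk {g : (Module.End F V)ˣ} (hg : g * s = s * g) : ∃ a c, g = S.Blk (a, c) := by
  obtain ⟨a, ha⟩ := S.exists_res hg
  obtain ⟨c, hc⟩ := S.exists_res (S.uinv_conj_comm hg)
  refine ⟨a, c, S.ext_unit (fun y => by rw [Blk_coe, ha]) (fun y => ?_)⟩
  rw [Blk_U, hc, Units.val_mul, Units.val_mul, Module.End.mul_apply, Module.End.mul_apply, u_uinv]

end Split

/-- The group induced on the fixed space. -/
noncomputable def resR {R : Subgroup (Module.End F V)ˣ} {s u : (Module.End F V)ˣ} {ι : W →ₗ[F] V} (S : Split R s u ι) :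
    Subgroup (Module.End F W)ˣ :=
  (R.comap S.Blk).map (MonoidHom.fst _ _)

/-- The induced form. -/
def resForm (ω : LinearMap.BilinForm F V) (ι : W →ₗ[F] V) : LinearMap.BilinForm F W :=
  ω.compl₁₂ ι ι

theorem resForm_apply (ω : LinearMap.BilinForm F V) (ι : W →ₗ[F] V) (y z : W) :
    resForm ω ι y z = ω (ι y) (ι z) := rfl

namespace Ext

variable {ω : LinearMap.BilinForm F V} {k : ℕ} {R : Subgroup (Module.End F V)ˣ} (D : Ext ω k R)
include D

theorem split {s u : (Module.End F V)ˣ} (hs : s ∈ R) (hu : u ∈ R) (hs2 : s * s = 1) (h : u * s = -(s * u)) :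
    Split R s u (LinearMap.ker ((s : Module.End F V) - 1)).subtype :=
  ⟨D.two_ne, hs, hu, hs2, h, D.sq u hu, Subtype.val_injective,
    fun y => sub_eq_zero.mp (LinearMap.mem_ker.mp y.2),
    fun x hx => ⟨⟨x, LinearMap.mem_ker.mpr (sub_eq_zero.mpr hx)⟩, rfl⟩⟩

theorem eq_of_commute_centralizer {w r : (Module.End F V)ˣ} (hr : r ∈ R) (hr1 : r ≠ 1) (hrn : r ≠ -1)
    (hw : w ∈ R) (h : ∀ a ∈ R, a * r = r * a → w * a = a * w) : w = 1 ∨ w = -1 ∨ w = r ∨ w = -r := by
  obtain ⟨u, hu, hur⟩ := D.anti_of_ne hr hr1 hrn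
  have key : ∀ w ∈ R, (∀ a ∈ R, a * r = r * a → w * a = a * w) → w * u = u * w → w = 1 ∨ w = -1 := by
    intro w hw h hwu
    refine D.center w hw fun a ha => ?_
    rcases D.comm a ha r hr with e | e
    · exact h a ha e
    · have h' := h (a * u) (mul_mem ha hu)
        (by rw [mul_assoc, hur, mul_neg, ← mul_assoc, e, neg_mul, neg_neg, mul_assoc])
      refine mul_right_cancel (b := u) ?_
      rw [mul_assoc, h', mul_assoc a w u, hwu, mul_assoc]
  rcases D.comm w hw u hu with e | e
  · rcases key w hw h e with e | e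
    · exact Or.inl e
    · exact Or.inr (Or.inl e)
  · have hrw : ∀ a ∈ R, a * r = r * a → w * r * a = a * (w * r) := fun a ha har => by
      rw [mul_assoc, ← har, ← mul_assoc, h a ha har, mul_assoc]
    have hwru : w * r * u = u * (w * r) := by
      rw [mul_assoc, show r * u = -(u * r) by rw [hur, neg_neg], mul_neg, ← mul_assoc, e, neg_mul, neg_neg, mul_assoc]
    have hrr : r⁻¹ = r ∨ r⁻¹ = -r := by
      rcases D.sq r hr with e | e
      · exact Or.inl (inv_eq_of_mul_eq_one_right e)
      · exact Or.inr (inv_eq_of_mul_eq_one_right (by rw [mul_neg, e, neg_neg]))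
    rcases key (w * r) (mul_mem hw hr) hrw hwru with e' | e'
    · rw [mul_eq_one_iff_eq_inv] at e'
      rcases hrr with f | f <;> rw [e', f]
      · exact Or.inr (Or.inr (Or.inl rfl))
      · exact Or.inr (Or.inr (Or.inr rfl))
    · have : w = -r⁻¹ := by rw [eq_mul_inv_iff_mul_eq.mpr e', neg_one_mul]
      rcases hrr with f | f <;> rw [this, f]
      · exact Or.inr (Or.inr (Or.inr rfl))
      · exact Or.inr (Or.inr (Or.inl (neg_neg r)))

section Split

variable {s u : (Module.End F V)ˣ} {ι : W →ₗ[F] V} (S : Split R s u ι)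

theorem form_U (hu : u ∈ R) (x y : V) : ω ((u : Module.End F V) x) ((u : Module.End F V) y) = ω x y := D.le hu x y

include S

theorem form_cross (y z : W) : ω (ι y) ((u : Module.End F V) (ι z)) = 0 := by
  have e := D.le S.mem (ι y) ((u : Module.End F V) (ι z))
  rw [S.fix, S.s_U, map_neg] at e
  have : (2 : F) * ω (ι y) ((u : Module.End F V) (ι z)) = 0 := by linear_combination -e
  exact (mul_eq_zero.mp this).resolve_left D.two_ne

theorem form_cross' (y z : W) : ω ((u : Module.End F V) (ι z)) (ι y) = 0 := by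
  have hsk := D.alt (ι y + (u : Module.End F V) (ι z))
  simp only [map_add, LinearMap.add_apply] at hsk
  rw [D.alt, D.alt, D.form_cross S] at hsk
  simpa using hsk

theorem Blk_mem_spSub {a c : (Module.End F W)ˣ} :
    S.Blk (a, c) ∈ spSub ω ↔ a ∈ spSub (resForm ω ι) ∧ c ∈ spSub (resForm ω ι) := by
  constructor
  · intro h
    constructor <;> intro y z
    · rw [resForm_apply, resForm_apply, ← S.Blk_coe a c, ← S.Blk_coe a c]
      exact h _ _
    · have := h ((u : Module.End F V) (ι y)) ((u : Module.End F V) (ι z))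
      rw [S.Blk_U, S.Blk_U, D.form_U S.umem, D.form_U S.umem] at this
      exact this
  · rintro ⟨ha, hc⟩ x y
    rw [← S.dec x, ← S.dec y]
    simp only [map_add, LinearMap.add_apply, S.Blk_coe, S.Blk_U, D.form_cross S, D.form_cross' S,
      D.form_U S.umem, add_zero, zero_add]
    exact congrArg₂ _ (ha _ _) (hc _ _)

theorem snd_of_mem {a c : (Module.End F W)ˣ} (h : S.Blk (a, c) ∈ R) : c = a ∨ c = -a := by
  have e := S.Blk_swap a c
  rcases D.comm u S.umem _ h with f | f
  · rw [f, mul_inv_cancel_right] at e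
    exact Or.inl (S.Blk_inj e).1.symm
  · rw [f, neg_mul, mul_inv_cancel_right, ← S.Blk_neg] at e
    exact Or.inr (S.Blk_inj e).1.symm

theorem mem_resR_iff {a : (Module.End F W)ˣ} : a ∈ resR S ↔ S.Blk (a, a) ∈ R := by
  refine ⟨?_, fun h => ⟨(a, a), h, rfl⟩⟩
  rintro ⟨⟨a, c⟩, h, rfl⟩
  show S.Blk (a, a) ∈ R
  rcases D.snd_of_mem S h with e | e <;> rw [e] at h
  · exact h
  · have h' : S.Blk (a, -a) ∈ R := h
    have := mul_mem h' S.mem
    rw [show S.Blk (a, -a) * s = S.Blk (a, -a) * S.Blk (1, -1) by rw [S.Blk_one_neg], ← map_mul,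
      show ((a, -a) * (1, -1) : (Module.End F W)ˣ × (Module.End F W)ˣ) = (a, a) by
        ext1 <;> simp] at this
    exact this

theorem Blk_neg_mem {a : (Module.End F W)ˣ} (ha : a ∈ resR S) : S.Blk (a, -a) ∈ R := by
  have := mul_mem ((D.mem_resR_iff S).mp ha) S.mem
  rwa [show S.Blk (a, a) * s = S.Blk (a, a) * S.Blk (1, -1) by rw [S.Blk_one_neg], ← map_mul,
    show ((a, a) * (1, -1) : (Module.End F W)ˣ × (Module.End F W)ˣ) = (a, -a) by
      ext1 <;> simp] at this

theorem exists_resR {r : (Module.End F V)ˣ} (hr : r ∈ R) (h : r * s = s * r) :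
    ∃ a ∈ resR S, r = S.Blk (a, a) ∨ r = S.Blk (a, -a) := by
  obtain ⟨a, c, rfl⟩ := S.exists_blk h
  refine ⟨a, ⟨(a, c), hr, rfl⟩, ?_⟩
  rcases D.snd_of_mem S hr with e | e <;> rw [e]
  · exact Or.inl rfl
  · exact Or.inr rfl

theorem nontrivial_fix : Nontrivial W := by
  obtain ⟨v, hv⟩ := @exists_ne V D.nontriv 0
  by_contra h
  rw [not_nontrivial_iff_subsingleton] at h
  refine hv ?_
  rw [← S.dec v, Subsingleton.elim (S.P v) 0, Subsingleton.elim (S.P _) 0]
  simp

theorem neg_ne_one_fix : (-1 : (Module.End F W)ˣ) ≠ 1 := by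
  intro h
  obtain ⟨v, hv⟩ := @exists_ne W (D.nontrivial_fix S) 0
  have e := congrArg (fun x : (Module.End F W)ˣ => (x : Module.End F W) v) h
  have e' : -v = v := e
  have : (2 : F) • v = 0 := by rw [two_smul]; nth_rewrite 1 [← e']; exact neg_add_cancel v
  exact hv ((smul_eq_zero.mp this).resolve_left D.two_ne)

theorem ne_one_neg : s ≠ 1 ∧ s ≠ -1 := by
  constructor <;> intro h
  · have := S.anti; rw [h, mul_one, one_mul] at this; exact D.ne_neg u this
  · have := S.anti; rw [h, mul_neg, mul_one, neg_mul, one_mul, neg_neg] at this; exact D.ne_neg u this.symm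

theorem card_resR [Finite V] : 4 * Nat.card (resR S) = Nat.card R := by
  classical
  let f : ZMod 2 × resR S × ZMod 2 → R := fun p =>
    ⟨(if p.2.2 = 0 then S.Blk (p.2.1.1, p.2.1.1) else S.Blk (p.2.1.1, -p.2.1.1)) * sel p.1 u, by
      refine mul_mem ?_ ?_
      · split_ifs
        · exact (D.mem_resR_iff S).mp p.2.1.2
        · exact D.Blk_neg_mem S p.2.1.2
      · unfold sel; split_ifs
        · exact R.one_mem
        · exact S.umem⟩
  have h01 : ∀ i : ZMod 2, i = 0 ∨ i = 1 := by decide
  have hc : ∀ p : resR S × ZMod 2,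
      (if p.2 = 0 then S.Blk (p.1.1, p.1.1) else S.Blk (p.1.1, -p.1.1)) * s =
        s * (if p.2 = 0 then S.Blk (p.1.1, p.1.1) else S.Blk (p.1.1, -p.1.1)) := by
    intro p; split_ifs <;> exact S.Blk_comm _
  have hf : Function.Bijective f := by
    constructor
    · rintro ⟨i, a, j⟩ ⟨i', a', j'⟩ e
      replace e := congrArg Subtype.val e
      simp only [f] at e
      obtain rfl : i = i' := by
        by_contra hne
        have hu' : ∀ B B' : (Module.End F V)ˣ, B * s = s * B → B' * s = s * B' → B * u = B' → False := by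
          intro B B' hB hB' hBB
          rw [← hBB, mul_assoc, S.anti, mul_neg, ← mul_assoc, hB, mul_assoc] at hB'
          exact D.ne_neg _ hB'.symm
        rcases h01 i with rfl | rfl <;> rcases h01 i' with rfl | rfl
        · exact hne rfl
        · rw [sel_zero, sel_one, mul_one] at e
          exact hu' _ _ (hc (a', j')) (hc (a, j)) e.symm
        · rw [sel_zero, sel_one, mul_one] at e
          exact hu' _ _ (hc (a, j)) (hc (a', j')) e
        · exact hne rfl
      replace e := mul_right_cancel e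
      split_ifs at e with h h' h'
      · obtain rfl := h; obtain rfl := h'
        rw [Subtype.ext (S.Blk_inj e).1]
      · exfalso
        have e1 := (S.Blk_inj e).1
        have e2 := (S.Blk_inj e).2
        rw [← e1] at e2
        exact D.neg_ne_one_fix S (by simpa using congrArg (fun x => x * a.1⁻¹) e2.symm)
      · exfalso
        have e1 := (S.Blk_inj e).1
        have e2 := (S.Blk_inj e).2
        rw [← e1] at e2
        exact D.neg_ne_one_fix S (by simpa using congrArg (fun x => x * a.1⁻¹) e2)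
      · rw [(h01 j).resolve_left h, (h01 j').resolve_left h', Subtype.ext (S.Blk_inj e).1]
    · rintro ⟨r, hr⟩
      have key : ∀ r ∈ R, r * s = s * r → ∃ (a : resR S) (j : ZMod 2),
          r = if j = 0 then S.Blk (a.1, a.1) else S.Blk (a.1, -a.1) := by
        intro r hr h
        obtain ⟨a, ha, e | e⟩ := D.exists_resR S hr h
        · exact ⟨⟨a, ha⟩, 0, e⟩
        · exact ⟨⟨a, ha⟩, 1, e⟩
      rcases D.comm r hr s S.mem with e | e
      · obtain ⟨a, j, h⟩ := key r hr e
        exact ⟨(0, a, j), Subtype.ext (by simp only [f, sel_zero, mul_one]; exact h.symm)⟩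
      · have hc' : r * u⁻¹ * s = s * (r * u⁻¹) := by
          have h : u⁻¹ * s = -(s * u⁻¹) := by
            rw [inv_mul_eq_iff_eq_mul, mul_neg, ← mul_assoc, S.anti, neg_mul, neg_neg, mul_inv_cancel_right]
          rw [mul_assoc, h, mul_neg, ← mul_assoc, e, neg_mul, neg_neg, mul_assoc]
        obtain ⟨a, j, h⟩ := key _ (mul_mem hr (inv_mem S.umem)) hc'
        exact ⟨(1, a, j), Subtype.ext (by simp only [f, sel_one]; rw [← h, inv_mul_cancel_right])⟩
  have := Nat.card_eq_of_bijective f hf
  rw [Nat.card_prod, Nat.card_prod, Nat.card_zmod] at this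
  omega

end Split

omit D in
/-- The group induced on the fixed space is of symplectic type. -/
theorem res [Finite V] {k : ℕ} (D : Ext ω (k + 1) R) {s u : (Module.End F V)ˣ} {ι : W →ₗ[F] V} (S : Split R s u ι) :
    Ext (resForm ω ι) k (resR S) where
  two_ne := D.two_ne
  nontriv := D.nontrivial_fix S
  alt := fun v => D.alt (ι v)
  nondeg := fun y hy => by
    obtain ⟨w, hw⟩ := D.nondeg (ι y) (fun h => hy (S.inj (h.trans (map_zero ι).symm)))
    refine ⟨S.P w, ?_⟩
    rw [resForm_apply]
    rwa [← S.dec w, map_add, D.form_cross S, add_zero] at hw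
  le := fun a ha => ((D.Blk_mem_spSub S).mp (D.le ((D.mem_resR_iff S).mp ha))).1
  neg := (D.mem_resR_iff S).mpr (by rw [S.Blk_neg, show S.Blk (1, 1) = 1 from map_one S.Blk]; exact D.neg)
  card := by
    have := D.card_resR S
    rw [D.card, show 1 + 2 * (k + 1) = 2 + (1 + 2 * k) by ring, pow_add] at this
    exact Nat.eq_of_mul_eq_mul_left (by norm_num) this
  sq := fun a ha => by
    rcases D.sq _ ((D.mem_resR_iff S).mp ha) with e | e <;> rw [← map_mul] at e
    · exact Or.inl (S.Blk_inj (e.trans (map_one S.Blk).symm)).1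
    · refine Or.inr (S.Blk_inj (a' := -1) (c' := -1) (e.trans ?_)).1
      show -1 = S.Blk (-1, -1)
      rw [S.Blk_neg]; exact congrArg _ (map_one S.Blk).symm
  comm := fun a ha b hb => by
    rcases D.comm _ ((D.mem_resR_iff S).mp ha) _ ((D.mem_resR_iff S).mp hb) with e | e <;>
      rw [← map_mul, ← map_mul] at e
    · exact Or.inl (S.Blk_inj e).1
    · refine Or.inr (S.Blk_inj (a' := -(b * a)) (c' := -(b * a)) (e.trans ?_)).1
      show -S.Blk (b * a, b * a) = S.Blk (-(b * a), -(b * a))
      rw [S.Blk_neg]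
  center := fun a ha h => by
    have hs := D.ne_one_neg S
    have := D.eq_of_commute_centralizer S.mem hs.1 hs.2 ((D.mem_resR_iff S).mp ha) fun r hr hrs => by
      obtain ⟨b, hb, e | e⟩ := D.exists_resR S hr hrs <;> rw [e, ← map_mul, ← map_mul]
      · exact congrArg _ (Prod.ext (h b hb) (h b hb))
      · exact congrArg _ (Prod.ext (h b hb) (by show a * -b = -b * a; rw [mul_neg, neg_mul, h b hb]))
    have e1 : (1 : (Module.End F V)ˣ) = S.Blk (1, 1) := (map_one S.Blk).symm
    have e2 : s = S.Blk (1, -1) := S.Blk_one_neg.symm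
    rcases this with e | e | e | e
    · rw [e1] at e; exact Or.inl (S.Blk_inj e).1
    · rw [e1, ← S.Blk_neg] at e; exact Or.inr (S.Blk_inj e).1
    · exact Or.inl (S.Blk_inj (e.trans e2)).1
    · exact Or.inr (S.Blk_inj (e.trans ((congrArg Neg.neg e2).trans (S.Blk_neg _ _).symm))).1
  scalar := fun T hT => by
    obtain ⟨α, β, e⟩ := D.comb_of_commute S.mem S.umem S.anti (h := S.blkEnd (T, T)) fun r hr hrs => by
      obtain ⟨b, hb, e | e⟩ := D.exists_resR S hr hrs <;> rw [e] <;>
        refine (map_mul S.blkEnd _ _).symm.trans ((congrArg S.blkEnd ?_).trans (map_mul S.blkEnd _ _))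
      · exact Prod.ext (hT b hb) (hT b hb)
      · exact Prod.ext (hT b hb) (by
          show T * -(b : Module.End F W) = -(b : Module.End F W) * T
          rw [mul_neg, hT b hb, neg_mul])
    refine ⟨α + β, LinearMap.ext fun y => S.inj ?_⟩
    have := congrArg (fun f : Module.End F V => f (ι y)) e
    rw [S.blkEnd_coe] at this
    rw [this, LinearMap.add_apply, LinearMap.smul_apply, LinearMap.smul_apply, Module.End.one_apply,
      S.fix, ← add_smul, LinearMap.smul_apply, Module.End.one_apply, map_smul]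
  minus := fun E hE hcom hsq => by
    have : Finite W := Finite.of_injective ι S.inj
    have hnc : ∀ (e : negs F W) (x : (Module.End F W)ˣ), (e : (Module.End F W)ˣ) * x = x * e := by
      intro e x; rcases e.2 with h | h <;> rw [h] <;> simp
    let φ : E × negs F W →* (Module.End F V)ˣ :=
      { toFun := fun p => S.Blk ((p.1 : (Module.End F W)ˣ), (p.1 : (Module.End F W)ˣ) * p.2)
        map_one' := by rw [← map_one S.Blk]; exact congrArg _ (Prod.ext rfl (one_mul _))
        map_mul' := fun p q => by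
          rw [← map_mul]
          refine congrArg _ (Prod.ext rfl ?_)
          show (p.1 : (Module.End F W)ˣ) * q.1 * (p.2 * q.2) = p.1 * p.2 * (q.1 * q.2)
          rw [mul_assoc, ← mul_assoc (q.1 : (Module.End F W)ˣ), ← hnc p.2, mul_assoc, ← mul_assoc] }
    have hφR : φ.range ≤ R := by
      rintro _ ⟨⟨⟨a, ha⟩, ⟨e, he⟩⟩, rfl⟩
      show S.Blk (a, a * e) ∈ R
      rcases he with rfl | rfl
      · rw [mul_one]; exact (D.mem_resR_iff S).mp (hE ha)
      · rw [mul_neg, mul_one]; exact D.Blk_neg_mem S (hE ha)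
    have hcomm : ∀ x ∈ φ.range, ∀ y ∈ φ.range, x * y = y * x := by
      rintro _ ⟨p, rfl⟩ _ ⟨q, rfl⟩
      rw [← map_mul, ← map_mul]
      exact congrArg _ (Prod.ext (Subtype.ext (hcom _ p.1.2 _ q.1.2)) (Subtype.ext (hnc p.2 q.2)))
    have hsq' : ∀ x ∈ φ.range, x * x = 1 := by
      rintro _ ⟨p, rfl⟩
      rw [← map_mul, ← map_one φ]
      refine congrArg _ (Prod.ext (Subtype.ext (hsq _ p.1.2)) (Subtype.ext ?_))
      show (p.2 : (Module.End F W)ˣ) * p.2 = 1
      rcases p.2.2 with h | h <;> rw [h] <;> simp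
    have h := D.minus φ.range hφR hcomm hsq'
    have hφ : Function.Injective φ := by
      rintro ⟨a, e⟩ ⟨a', e'⟩ h
      obtain ⟨h1, h2⟩ := S.Blk_inj h
      rw [← h1] at h2
      exact Prod.ext (Subtype.ext h1) (Subtype.ext (mul_left_cancel h2))
    have hn : 2 ≤ Nat.card (negs F W) := by
      refine le_trans (le_of_eq (Nat.card_fin 2).symm) (Nat.card_le_card_of_injective
        (![1, ⟨-1, Or.inr rfl⟩] : Fin 2 → negs F W) ?_)
      intro i j e
      have e' := congrArg (fun z : negs F W => (z : (Module.End F W)ˣ)) e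
      fin_cases i <;> fin_cases j
      · rfl
      · exact absurd e'.symm (D.neg_ne_one_fix S)
      · exact absurd e' (D.neg_ne_one_fix S)
      · rfl
    rw [← Nat.card_congr (MonoidHom.ofInjective hφ).toEquiv, Nat.card_prod] at h
    have h3 := Nat.mul_le_mul_left (Nat.card E) hn
    rw [show 2 ^ (k + 1 + 1) = 2 ^ (k + 1) * 2 from pow_succ 2 (k + 1)] at h
    omega
  dim := by
    have : Finite W := Finite.of_injective ι S.inj
    have : Module.Finite F W := Module.Finite.of_finite
    let e : V ≃ₗ[F] W × W :=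
      { toLinearMap := S.P.prod (S.P ∘ₗ ((u⁻¹ : (Module.End F V)ˣ) : Module.End F V))
        invFun := fun p => ι p.1 + (u : Module.End F V) (ι p.2)
        left_inv := fun x => S.dec x
        right_inv := fun p => by
          refine Prod.ext ?_ ?_
          · show S.P (ι p.1 + (u : Module.End F V) (ι p.2)) = p.1
            rw [map_add, S.P_coe, S.P_U, add_zero]
          · show S.P (((u⁻¹ : (Module.End F V)ˣ) : Module.End F V) (ι p.1 + (u : Module.End F V) (ι p.2))) = p.2
            rw [map_add, map_add, S.P_Uinv, S.P_UinvU, zero_add] }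
    have h := e.finrank_eq
    rw [Module.finrank_prod, D.dim, pow_succ] at h
    omega

end Ext

end Cfsg.Agent.Lib.Sym78
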