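import Cfsg.Agent.Lib.Sym78.Block

/-!
Groups containing every transvection of an alternating form: normal subgroups containing a
non-central involution, and transfer from an eigenspace.
-/

set_option autoImplicit false
set_option linter.style.haveILetI false

namespace Cfsg.Agent.Lib.Sym78

open Cfsg.Agent.Lib.SympFusion78
open Subgroup

variable {F : Type*} [Field F] {V : Type*} [AddCommGroup V] [Module F V]

/-- `g` is the transvection along `v` with parameter `c`. -/
def IsTv (ω : LinearMap.BilinForm F V) (g : (Module.End F V)ˣ) (v : V) (c : F) : Prop :=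
  ∀ x, (g : Module.End F V) x = x + (c * ω x v) • v

/-- All transvections lie in `H`. -/
def Full (ω : LinearMap.BilinForm F V) (H : Subgroup (Module.End F V)ˣ) : Prop :=
  ∀ g v c, IsTv ω g v c → g ∈ H

variable (ω : LinearMap.BilinForm F V) (halt : ∀ v, ω v v = 0)

include halt in
theorem skew_of_alt (x y : V) : ω y x = -ω x y := by
  have h := halt (x + y)
  simp only [map_add, LinearMap.add_apply] at h
  rw [halt, halt] at h
  linear_combination h

/-- The transvection as a linear map. -/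
def tvEnd (v : V) (c : F) : Module.End F V := 1 + c • (LinearMap.smulRight (ω.flip v) v)

theorem tvEnd_apply (v : V) (c : F) (x : V) : tvEnd ω v c x = x + (c * ω x v) • v := by
  simp only [tvEnd, LinearMap.add_apply, Module.End.one_apply, LinearMap.smul_apply,
    LinearMap.smulRight_apply, smul_smul]
  rfl

include halt in
theorem tvEnd_mul (v : V) (c d : F) : tvEnd ω v c * tvEnd ω v d = tvEnd ω v (c + d) := by
  refine LinearMap.ext fun x => ?_
  rw [Module.End.mul_apply, tvEnd_apply, tvEnd_apply, tvEnd_apply, map_add, map_smul, LinearMap.add_apply,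
    LinearMap.smul_apply, halt, smul_zero, add_zero, add_assoc, ← add_smul]
  congr 2
  ring

theorem tvEnd_zero (v : V) : tvEnd ω v 0 = 1 := by
  refine LinearMap.ext fun x => ?_
  rw [tvEnd_apply, zero_mul, zero_smul, add_zero, Module.End.one_apply]

/-- The transvection as a unit. -/
def tv (v : V) (c : F) : (Module.End F V)ˣ where
  val := tvEnd ω v c
  inv := tvEnd ω v (-c)
  val_inv := by rw [tvEnd_mul ω halt, add_neg_cancel, tvEnd_zero]
  inv_val := by rw [tvEnd_mul ω halt, neg_add_cancel, tvEnd_zero]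

theorem isTv_tv (v : V) (c : F) : IsTv ω (tv ω halt v c) v c := tvEnd_apply ω v c

variable {ω}

theorem IsTv.unique {g g' : (Module.End F V)ˣ} {v : V} {c : F} (h : IsTv ω g v c) (h' : IsTv ω g' v c) :
    g = g' := Units.ext (LinearMap.ext fun x => (h x).trans (h' x).symm)

theorem IsTv.conj {g h : (Module.End F V)ˣ} (hh : h ∈ spSub ω) {v : V} {c : F} (hg : IsTv ω g v c) :
    IsTv ω (h * g * h⁻¹) ((h : Module.End F V) v) c := by
  intro x
  set y := ((h⁻¹ : (Module.End F V)ˣ) : Module.End F V) x with hy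
  have hx : (h : Module.End F V) y = x := by rw [hy, u_uinv]
  rw [Units.val_mul, Units.val_mul, Module.End.mul_apply, Module.End.mul_apply, ← hy, hg, map_add,
    map_smul, hx]
  congr 3
  rw [← hx, hh]

include halt in
theorem IsTv.mem_spSub {g : (Module.End F V)ˣ} {v : V} {c : F} (hg : IsTv ω g v c) : g ∈ spSub ω := by
  intro x y
  rw [hg, hg]
  simp only [map_add, map_smul, LinearMap.add_apply, LinearMap.smul_apply, smul_eq_mul, halt]
  rw [skew_of_alt ω halt v y]
  ring

theorem exists_sep_form {v w a : V} (hv : ∃ y, ω w y = 0 ∧ ω v y ≠ 0) (ha : ∃ y, ω w y = 0 ∧ ω a y ≠ 0) :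
    ∃ y, ω w y = 0 ∧ ω v y ≠ 0 ∧ ω a y ≠ 0 := by
  obtain ⟨y, hy, hvy⟩ := hv
  obtain ⟨z, hz, haz⟩ := ha
  by_cases h1 : ω a y = 0
  · by_cases h2 : ω v z = 0
    · exact ⟨y + z, by rw [map_add, hy, hz, add_zero], by rwa [map_add, h2, add_zero],
        by rwa [map_add, h1, zero_add]⟩
    · exact ⟨z, hz, h2, haz⟩
  · exact ⟨y, hy, hvy, h1⟩

include halt in
/-- A group normalised by the transvections containing a non-central involution contains them all. -/
theorem full_of_involution (hnd : ∀ v, v ≠ 0 → ∃ w, ω v w ≠ 0) (h2 : (2 : F) ≠ 0)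
    {K : Subgroup (Module.End F V)ˣ} (hconj : ∀ g v c, IsTv ω g v c → ∀ x ∈ K, g * x * g⁻¹ ∈ K)
    {b : (Module.End F V)ˣ} (hb : b ∈ K) (hbsp : b ∈ spSub ω) (hb2 : b * b = 1) (hb1 : b ≠ 1) (hbn : b ≠ -1) :
    Full ω K := by
  have halt' := skew_of_alt ω halt
  set B : Module.End F V := (b : Module.End F V) with hB
  have hBB : ∀ x, B (B x) = x := fun x => by
    rw [hB, ← Module.End.mul_apply, ← Units.val_mul, hb2, Units.val_one, Module.End.one_apply]
  obtain ⟨p, hp0, hp⟩ : ∃ p, p ≠ 0 ∧ B p = p := by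
    by_contra! h
    refine hbn (Units.ext (LinearMap.ext fun x => ?_))
    have : x + B x = 0 := by
      by_contra hne
      exact h _ hne (by rw [map_add, hBB, add_comm])
    show B x = -x
    exact eq_neg_of_add_eq_zero_right this
  obtain ⟨m, hm0, hm⟩ : ∃ m, m ≠ 0 ∧ B m = -m := by
    by_contra! h
    refine hb1 (Units.ext (LinearMap.ext fun x => ?_))
    have : x - B x = 0 := by
      by_contra hne
      exact h _ hne (by rw [map_sub, hBB, neg_sub])
    show B x = x
    exact (sub_eq_zero.mp this).symm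
  have horth : ∀ x y, B x = x → B y = -y → ω x y = 0 := by
    intro x y hx hy
    have e := hbsp x y
    rw [← hB, hx, hy, map_neg] at e
    have : (2 : F) * ω x y = 0 := by linear_combination -e
    exact (mul_eq_zero.mp this).resolve_left h2
  obtain ⟨p', hp', hpp⟩ : ∃ p', B p' = p' ∧ ω p p' ≠ 0 := by
    obtain ⟨w, hw⟩ := hnd p hp0
    refine ⟨w + B w, by rw [map_add, hBB, add_comm], ?_⟩
    rw [map_add, show ω p (B w) = ω p w by conv_lhs => rw [← hp, hbsp], ← two_mul]
    exact mul_ne_zero h2 hw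
  obtain ⟨m', hm', hmm⟩ : ∃ m', B m' = -m' ∧ ω m m' ≠ 0 := by
    obtain ⟨w, hw⟩ := hnd m hm0
    refine ⟨w - B w, by rw [map_sub, hBB, neg_sub], ?_⟩
    have e := hbsp m w
    rw [← hB, hm, map_neg, LinearMap.neg_apply] at e
    rw [map_sub, show ω m (B w) = -ω m w by rw [← e, neg_neg], sub_neg_eq_add, ← two_mul]
    exact mul_ne_zero h2 hw
  set v := p + m with hv
  set w := p - m with hw
  have hBv : B v = w := by rw [hv, map_add, hp, hm]; exact (sub_eq_add_neg p m).symm
  have hpm := horth p m hp hm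
  have hmp : ω m p = 0 := by rw [halt' p m, hpm, neg_zero]
  obtain ⟨y₀, hwy₀, hvy₀⟩ : ∃ y, ω w y = 0 ∧ ω v y = 2 := by
    have hmp' : ω m p' = 0 := by rw [halt' p' m, horth p' m hp' hm, neg_zero]
    refine ⟨(ω p p')⁻¹ • p' + (ω m m')⁻¹ • m', ?_, ?_⟩
    all_goals
      simp only [hw, hv, map_sub, map_add, map_smul, LinearMap.sub_apply, LinearMap.add_apply,
        smul_eq_mul, horth p m' hp hm', hmp', mul_zero, add_zero, zero_add, sub_zero, zero_sub]
      field_simp
      ring
  -- the pairs in `K`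
  have hD : ∀ a, ω w a = 0 → (∃ y, ω w y = 0 ∧ ω a y ≠ 0) →
      tv ω halt w 1 * tv ω halt a (-1) ∈ K := by
    have h0 : tv ω halt w 1 * tv ω halt v (-1) ∈ K := by
      have h1 : tv ω halt w 1 = b * tv ω halt v 1 * b⁻¹ := by
        refine IsTv.unique (isTv_tv ω halt w 1) ?_
        rw [← hBv]
        exact (isTv_tv ω halt v 1).conj hbsp
      have h2 : tv ω halt v (-1) = (tv ω halt v 1)⁻¹ := by
        refine (inv_eq_of_mul_eq_one_right (Units.ext ?_)).symm
        show tvEnd ω v 1 * tvEnd ω v (-1) = 1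
        rw [tvEnd_mul ω halt, add_neg_cancel, tvEnd_zero]
      rw [h1, h2, show b * tv ω halt v 1 * b⁻¹ * (tv ω halt v 1)⁻¹ = b * (tv ω halt v 1 * b⁻¹ * (tv ω halt v 1)⁻¹) by group]
      exact mul_mem hb (hconj _ _ _ (isTv_tv ω halt v 1) _ (inv_mem hb))
    have hstep : ∀ a a', ω w a = 0 → ω w a' = 0 → ω a a' ≠ 0 →
        tv ω halt w 1 * tv ω halt a (-1) ∈ K → tv ω halt w 1 * tv ω halt a' (-1) ∈ K := by
      intro a a' ha ha' hne hK
      have hz : ω a (a' - a) ≠ 0 := by rwa [map_sub, halt, sub_zero]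
      set t := tv ω halt (a' - a) (ω a (a' - a))⁻¹ with ht
      have htw : (t : Module.End F V) w = w := by
        rw [ht, isTv_tv ω halt _ _ w, show ω w (a' - a) = 0 by rw [map_sub, ha, ha', sub_zero], mul_zero, zero_smul, add_zero]
      have hta : (t : Module.End F V) a = a' := by
        rw [ht, isTv_tv ω halt _ _ a, inv_mul_cancel₀ hz, one_smul, add_sub_cancel]
      have hts := (isTv_tv ω halt (a' - a) (ω a (a' - a))⁻¹).mem_spSub halt
      have := hconj _ _ _ (isTv_tv ω halt (a' - a) (ω a (a' - a))⁻¹) _ hK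
      rw [← ht] at this hts
      rw [show t * (tv ω halt w 1 * tv ω halt a (-1)) * t⁻¹ = t * tv ω halt w 1 * t⁻¹ * (t * tv ω halt a (-1) * t⁻¹) by group,
        IsTv.unique ((isTv_tv ω halt w 1).conj hts) (by rw [htw]; exact isTv_tv ω halt w 1),
        IsTv.unique ((isTv_tv ω halt a (-1)).conj hts) (by rw [hta]; exact isTv_tv ω halt a' (-1))] at this
      exact this
    intro a ha hay
    have hwv : ω w v = 0 := by
      simp only [hw, hv, map_sub, map_add, LinearMap.sub_apply, halt, hpm, hmp]; ring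
    obtain ⟨y, hy, hvy', hay'⟩ := exists_sep_form (v := v) ⟨y₀, hwy₀, by rw [hvy₀]; exact h2⟩ hay
    exact hstep y a hy ha (fun e => hay' (by rw [halt' y a, e, neg_zero]))
      (hstep v y hwv hy hvy' h0)
  have hwp : ω w p = 0 := by simp only [hw, map_sub, LinearMap.sub_apply, halt, hmp, sub_zero]
  have hwm : ω w m = 0 := by simp only [hw, map_sub, LinearMap.sub_apply, halt, hpm, sub_zero]
  -- one transvection
  have htwo : ∀ t : F, tv ω halt v (2 * (t * t)) ∈ K := by
    intro t
    by_cases ht : t = 0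
    · rw [ht, mul_zero, mul_zero,
        show tv ω halt v 0 = 1 from Units.ext (tvEnd_zero ω v)]
      exact K.one_mem
    have hwv' : ω w (t • v) = 0 := by rw [map_smul, hv, map_add, hwp, hwm, add_zero, smul_zero]
    have key : ∀ a, (∃ y, ω w y = 0 ∧ ω a y ≠ 0) → ω w a = 0 → tv ω halt a 1 * tv ω halt w (-1) ∈ K := by
      intro a hay ha
      have h := inv_mem (hD a ha hay)
      rw [show (tv ω halt w 1 * tv ω halt a (-1))⁻¹ = tv ω halt a 1 * tv ω halt w (-1) from
        inv_eq_of_mul_eq_one_right (Units.ext (LinearMap.ext fun x => ?_))] at h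
      · exact h
      · show tvEnd ω w 1 (tvEnd ω a (-1) (tvEnd ω a 1 (tvEnd ω w (-1) x))) = x
        rw [← Module.End.mul_apply (tvEnd ω a (-1)), tvEnd_mul ω halt, neg_add_cancel, tvEnd_zero,
          Module.End.one_apply, ← Module.End.mul_apply, tvEnd_mul ω halt, add_neg_cancel, tvEnd_zero,
          Module.End.one_apply]
    have h1 := key (t • v + w) ⟨y₀, hwy₀, ?_⟩ (by rw [map_add, hwv', halt, add_zero])
    have h2' := key (t • v - w) ⟨y₀, hwy₀, ?_⟩ (by rw [map_sub, hwv', halt, sub_zero])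
    · have := mul_mem h1 h2'
      rwa [show tv ω halt (t • v + w) 1 * tv ω halt w (-1) * (tv ω halt (t • v - w) 1 * tv ω halt w (-1)) =
        tv ω halt v (2 * (t * t)) from Units.ext (LinearMap.ext fun x => ?_)] at this
      show tvEnd ω (t • v + w) 1 (tvEnd ω w (-1) (tvEnd ω (t • v - w) 1 (tvEnd ω w (-1) x))) = tvEnd ω v (2 * (t * t)) x
      have hvw : ω v w = 0 := by rw [halt' w v, hv, map_add, hwp, hwm, add_zero, neg_zero]
      have hwv : ω w v = 0 := by rw [hv, map_add, hwp, hwm, add_zero]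
      simp only [tvEnd_apply, map_add, map_sub, map_smul, LinearMap.add_apply, LinearMap.sub_apply,
        LinearMap.smul_apply, smul_eq_mul, halt, hvw, hwv]
      match_scalars <;> ring
    all_goals
      simp only [map_add, map_sub, LinearMap.add_apply, LinearMap.sub_apply, map_smul, LinearMap.smul_apply,
        hwy₀, hvy₀, smul_eq_mul, add_zero, sub_zero]
      exact mul_ne_zero ht h2
  intro g z c hg
  have hvall : ∀ c, tv ω halt v c ∈ K := by
    intro c
    have := mul_mem (htwo ((c / 2 + 1) / 2)) (inv_mem (htwo ((c / 2 - 1) / 2)))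
    rwa [show tv ω halt v (2 * ((c / 2 + 1) / 2 * ((c / 2 + 1) / 2))) * (tv ω halt v (2 * ((c / 2 - 1) / 2 * ((c / 2 - 1) / 2))))⁻¹ =
      tv ω halt v c from Units.ext (by
        show tvEnd ω v _ * tvEnd ω v (-_) = tvEnd ω v c
        rw [tvEnd_mul ω halt]
        congr 1
        field_simp
        ring)] at this
  have hmove : ∀ x y : V, ω x y ≠ 0 → (∀ c, tv ω halt x c ∈ K) → ∀ c, tv ω halt y c ∈ K := by
    intro x y hxy hx c
    have hz : ω x (y - x) ≠ 0 := by rwa [map_sub, halt, sub_zero]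
    have ht := isTv_tv ω halt (y - x) (ω x (y - x))⁻¹
    have := hconj _ _ _ ht _ (hx c)
    rwa [IsTv.unique ((isTv_tv ω halt x c).conj (ht.mem_spSub halt)) (by
      rw [ht x, inv_mul_cancel₀ hz, one_smul, add_sub_cancel]; exact isTv_tv ω halt y c)] at this
  by_cases hz : z = 0
  · have : g = 1 := Units.ext (LinearMap.ext fun x => by rw [hg x, hz, smul_zero, add_zero]; rfl)
    rw [this]; exact K.one_mem
  rw [IsTv.unique hg (isTv_tv ω halt z c)]
  have hv0 : ∃ y, ω (0 : V) y = 0 ∧ ω v y ≠ 0 := by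
    refine ⟨p', by simp, ?_⟩
    rw [hv, map_add, LinearMap.add_apply, show ω m p' = 0 by rw [halt' p' m, horth p' m hp' hm, neg_zero], add_zero]
    exact hpp
  obtain ⟨y0, hy0⟩ := hnd z hz
  obtain ⟨y, -, hvy, hzy⟩ := exists_sep_form hv0 ⟨y0, by simp, hy0⟩
  exact hmove y z (fun e => hzy (by rw [halt' y z, e, neg_zero])) (hmove v y hvy hvall) c

/-- Transvections along one eigenspace and an element moving it generate all of them. -/
theorem full_of_eigen {k : ℕ} {R H : Subgroup (Module.End F V)ˣ} (D : Ext ω k R)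
    {W : Type*} [AddCommGroup W] [Module F W] {s u : (Module.End F V)ˣ} {ι : W →ₗ[F] V} (S : Split R s u ι)
    (hH : H ≤ spSub ω) (hu : u ∈ H)
    (hplus : ∀ g (y : W) (c : F), IsTv ω g (ι y) c → g ∈ H)
    {n : (Module.End F V)ˣ} (hn : n ∈ H) (hns : n * s * n⁻¹ * s = -(s * (n * s * n⁻¹))) : Full ω H := by
  have halt := D.alt
  have hh := skew_of_alt ω halt
  let X : Set V := {v | ∀ g c, IsTv ω g v c → g ∈ H}
  have himg : ∀ v ∈ X, ∀ h ∈ H, (h : Module.End F V) v ∈ X := by
    intro v hv h hh' g c hg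
    have e := hv (h⁻¹ * g * h) c (by
      have := hg.conj (inv_mem (hH hh'))
      rwa [inv_inv, uinv_u] at this)
    have := mul_mem (mul_mem hh' e) (inv_mem hh')
    rwa [show h * (h⁻¹ * g * h) * h⁻¹ = g by group] at this
  have hstep : ∀ x ∈ X, ∀ y ∈ X, ω x y ≠ 0 → x + y ∈ X := by
    intro x hx y hy hne
    have := himg x hx _ (hy _ (ω x y)⁻¹ (isTv_tv ω halt y (ω x y)⁻¹))
    rwa [isTv_tv ω halt y (ω x y)⁻¹ x, inv_mul_cancel₀ hne, one_smul] at this
  have hp : ∀ y, ι y ∈ X := fun y g c => hplus g y c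
  have hm : ∀ y, (u : Module.End F V) (ι y) ∈ X := fun y => himg _ (hp y) u hu
  set s' := n * s * n⁻¹ with hs'
  intro g v c hg
  refine (?_ : v ∈ X) g c hg
  rw [← S.dec v]
  set a := S.P v
  set b := S.P (((u⁻¹ : (Module.End F V)ˣ) : Module.End F V) v)
  by_cases ha : a = 0
  · rw [ha, map_zero, zero_add]; exact hm b
  by_cases hb : b = 0
  · rw [hb, map_zero, map_zero, add_zero]; exact hp a
  -- a fixed vector of the conjugate
  have hs2 : ∀ x, (s' : Module.End F V) ((s' : Module.End F V) x) = x := by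
    intro x
    rw [← Module.End.mul_apply, ← Units.val_mul, hs', show n * s * n⁻¹ * (n * s * n⁻¹) = n * (s * s) * n⁻¹ by group,
      S.sq, mul_one, mul_inv_cancel, Units.val_one, Module.End.one_apply]
  set q := (s' : Module.End F V) (ι a) with hq
  have hsq : (s : Module.End F V) q = -q := by
    have e : s * s' = -(s' * s) := by rw [hns, neg_neg]
    rw [hq, ← Module.End.mul_apply, ← Units.val_mul, e, Units.val_neg, LinearMap.neg_apply, Units.val_mul,
      Module.End.mul_apply, S.fix]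
  have hq0 : q ≠ 0 := fun e => ha (S.inj (by rw [← hs2 (ι a), ← hq, e, map_zero, map_zero]))
  have hx0 : ι a + q ∈ X := by
    have hfix : (s : Module.End F V) (((n⁻¹ : (Module.End F V)ˣ) : Module.End F V) (ι a + q)) =
        ((n⁻¹ : (Module.End F V)ˣ) : Module.End F V) (ι a + q) := by
      have e : (s' : Module.End F V) (ι a + q) = ι a + q := by rw [map_add, hq, hs2, add_comm]
      conv_rhs => rw [← e]
      rw [hs', Units.val_mul, Units.val_mul, Module.End.mul_apply, Module.End.mul_apply, uinv_u]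
    obtain ⟨y, hy⟩ := S.surj _ hfix
    have := himg _ (hp y) n hn
    rwa [hy, u_uinv] at this
  obtain ⟨q1, hq1⟩ : ∃ q1, q = (u : Module.End F V) (ι q1) := by
    refine ⟨S.P (((u⁻¹ : (Module.End F V)ˣ) : Module.End F V) q), ?_⟩
    have : ι (S.P q) = 0 := by rw [S.coe_P, hsq, add_neg_cancel, smul_zero]
    conv_lhs => rw [← S.dec q, this, zero_add]
  have hq10 : q1 ≠ 0 := fun e => hq0 (by rw [hq1, e, map_zero, map_zero])
  have hcross : ∀ z, ω (ι a) ((u : Module.End F V) (ι z)) = 0 := fun z => D.form_cross S a z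
  have hUU : ∀ z z', ω ((u : Module.End F V) (ι z)) ((u : Module.End F V) (ι z')) = ω (ι z) (ι z') :=
    fun z z' => D.form_U S.umem _ _
  have hsep : ∀ z : W, z ≠ 0 → ∃ y : W, ω (ι z) (ι y) ≠ 0 := by
    intro z hz
    obtain ⟨w, hw⟩ := D.nondeg (ι z) (fun h => hz (S.inj (h.trans (map_zero ι).symm)))
    refine ⟨S.P w, ?_⟩
    rwa [← S.dec w, map_add, D.form_cross S, add_zero] at hw
  obtain ⟨y, hy1, hy2⟩ : ∃ y : W, ω (ι q1) (ι y) ≠ 0 ∧ ω (ι b) (ι y) ≠ 0 := by
    obtain ⟨y, hy⟩ := hsep q1 hq10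
    obtain ⟨z, hz⟩ := hsep b hb
    by_cases h1 : ω (ι b) (ι y) = 0
    · by_cases h2 : ω (ι q1) (ι z) = 0
      · exact ⟨y + z, by rw [map_add, map_add, h2, add_zero]; exact hy, by rw [map_add, map_add, h1, zero_add]; exact hz⟩
      · exact ⟨z, h2, hz⟩
    · exact ⟨y, hy, h1⟩
  have h3 : ι a + (u : Module.End F V) (ι y) ∈ X := by
    have := hstep _ hx0 _ (hm (y - q1)) (by
      rw [map_add, LinearMap.add_apply, hq1, hcross, zero_add, hUU, map_sub, map_sub, halt, sub_zero]
      exact hy1)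
    rwa [hq1, add_assoc, ← map_add, ← map_add, add_sub_cancel] at this
  have := hstep _ h3 _ (hm (b - y)) (by
    rw [map_add, LinearMap.add_apply, hcross, zero_add, hUU, map_sub, map_sub, halt, sub_zero, hh]
    exact neg_ne_zero.mpr hy2)
  rwa [add_assoc, ← map_add, ← map_add, add_sub_cancel] at this

end Cfsg.Agent.Lib.Sym78
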