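import Cfsg.Agent.Lib.Sym78.Basic

/-!
The fusion step: an overgroup of the normaliser of a group of symplectic type in which the
centralisers of the non-central involutions normalise the group, itself normalises the group.
-/

set_option autoImplicit false
set_option linter.style.haveILetI false

namespace Cfsg.Agent.Lib.Sym78

open Cfsg.Agent.Lib.SympFusion78
open Subgroup

variable {F : Type*} [Field F] {V : Type*} [AddCommGroup V] [Module F V]

theorem tau_sq (h2 : (2 : F) ≠ 0) {r : (Module.End F V)ˣ} (hr : r * r = -1) :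
    ((tau h2 r hr : (Module.End F V)ˣ) : Module.End F V) * (tau h2 r hr : (Module.End F V)ˣ).val =
      (2 : F) • (r : Module.End F V) := by
  have e : (r : Module.End F V) * r = -1 := by rw [← Units.val_mul, hr]; simp
  rw [tau_val, add_mul, mul_add, mul_add, one_mul, mul_one, one_mul, e, two_smul]
  abel

theorem tau_commute (h2 : (2 : F) ≠ 0) {r x : (Module.End F V)ˣ} (hr : r * r = -1) (h : r * x = x * r) :
    tau h2 r hr * x = x * tau h2 r hr :=
  mul_inv_eq_iff_eq_mul.mp (tau_conj_of_comm h2 hr h)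

theorem pairElem_commute (h2 : (2 : F) ≠ 0) {r r' x : (Module.End F V)ˣ} (hr : r * r = -1) (hr' : r' * r' = -1)
    (h : r * x = x * r) (h' : r' * x = x * r') : pairElem h2 r r' hr hr' * x = x * pairElem h2 r r' hr hr' := by
  unfold pairElem
  exact Commute.mul_left (scal_comm _ x) (Commute.mul_left (tau_commute h2 hr h) (tau_commute h2 hr' h'))

theorem pairElem_sq (h2 : (2 : F) ≠ 0) {r r' : (Module.End F V)ˣ} (hr : r * r = -1) (hr' : r' * r' = -1)
    (h : r * r' = r' * r) : pairElem h2 r r' hr hr' * pairElem h2 r r' hr hr' = r * r' := by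
  have hA := tau_sq h2 hr
  have hB := tau_sq h2 hr'
  have hc : tau h2 r hr * tau h2 r' hr' = tau h2 r' hr' * tau h2 r hr :=
    tau_commute h2 hr (tau_commute h2 hr' h.symm).symm
  unfold pairElem
  set A := tau h2 r hr
  set B := tau h2 r' hr'
  set c := (scal (Units.mk0 (2 : F)⁻¹ (inv_ne_zero h2)) : (Module.End F V)ˣ) with hcdef
  have e : c * (A * B) * (c * (A * B)) = c * c * ((A * A) * (B * B)) := by
    calc c * (A * B) * (c * (A * B)) = c * ((A * B) * c) * (A * B) := by group
      _ = c * (c * (A * B)) * (A * B) := by rw [← scal_comm]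
      _ = c * c * (A * (B * A) * B) := by group
      _ = c * c * (A * (A * B) * B) := by rw [← hc]
      _ = _ := by group
  rw [e]
  refine Units.ext ?_
  rw [Units.val_mul, Units.val_mul, Units.val_mul, Units.val_mul, Units.val_mul, hA, hB, hcdef, scal_val,
    Units.val_mk0, Units.val_mul]
  simp only [smul_mul_assoc, mul_smul_comm, one_mul, mul_one, smul_smul]
  rw [show (2 : F) * 2 * ((2 : F)⁻¹ * (2 : F)⁻¹) = 1 by field_simp, one_smul]

namespace Ext

variable {ω : LinearMap.BilinForm F V} {k : ℕ} {R : Subgroup (Module.End F V)ˣ} (D : Ext ω k R)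
include D

theorem exists_form_ne : ∃ u v, ω u v ≠ 0 := by
  obtain ⟨u, hu⟩ := @exists_ne V D.nontriv 0
  exact ⟨u, D.nondeg u hu⟩

theorem scalar_sq {h : (Module.End F V)ˣ} (hh : h ∈ spSub ω) {c : F}
    (e : (h : Module.End F V) = c • 1) : h = 1 ∨ h = -1 := by
  obtain ⟨u, v, huv⟩ := D.exists_form_ne
  have := hh u v
  rw [e] at this
  simp only [LinearMap.smul_apply, Module.End.one_apply, map_smul, smul_eq_mul] at this
  rw [← mul_assoc] at this
  rcases mul_self_eq_one_iff.mp ((mul_eq_right₀ huv).mp this) with rfl | rfl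
  · exact Or.inl (Units.ext (by rw [e, one_smul, Units.val_one]))
  · exact Or.inr (Units.ext (by rw [e, neg_one_smul, Units.val_neg, Units.val_one]))

theorem conj_eq {a b : (Module.End F V)ˣ} (ha : a ∈ R) (hb : b ∈ R) : a * b * a⁻¹ = sg (bR a b) * b := by
  rw [D.comm_eq ha hb]; group

theorem not_scalar {r : (Module.End F V)ˣ} (hr : r ∈ R) (h1 : r ≠ 1) (h2 : r ≠ -1) (c : F) :
    (r : Module.End F V) ≠ c • 1 := fun e =>
  (D.scalar_sq (D.le hr) e).elim h1 h2

/-- What commutes with the centraliser of `r` in `R` is a combination of `1` and `r`. -/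
theorem comb_of_commute {r u : (Module.End F V)ˣ} (hr : r ∈ R) (hu : u ∈ R) (hur : u * r = -(r * u))
    {h : Module.End F V} (hh : ∀ a ∈ R, a * r = r * a → h * (a : Module.End F V) = a * h) :
    ∃ α β : F, h = α • 1 + β • (r : Module.End F V) := by
  set U : Module.End F V := (u : Module.End F V)
  set r' : Module.End F V := (r : Module.End F V)
  set I : Module.End F V := ((u⁻¹ : (Module.End F V)ˣ) : Module.End F V)
  have hUI : U * I = 1 := Units.mul_inv u
  have hIU : I * U = 1 := Units.inv_mul u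
  have hUr : U * r' = -(r' * U) := by
    rw [← Units.val_mul, hur, Units.val_neg, Units.val_mul]
  have hUUh : U * U * h = h * (U * U) := by
    rcases D.sq u hu with e | e <;>
      rw [← Units.val_mul, e] <;> simp
  have hconj : U * (U * h * I) = h * U := by
    rw [← mul_assoc, ← mul_assoc, hUUh, mul_assoc, mul_assoc, hUI, mul_one]
  have hconj' : U * h = (U * h * I) * U := by rw [mul_assoc _ I, hIU, mul_one]
  have hcent : ∀ a ∈ R, a * r = r * a → (U * h * I) * (a : Module.End F V) = a * (U * h * I) := by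
    intro a ha har
    have hb : u⁻¹ * a * u ∈ R := mul_mem (mul_mem (inv_mem hu) ha) hu
    rcases D.comm u hu a ha with e | e
    · have ea : u⁻¹ * a = a * u⁻¹ := (Commute.inv_left (show Commute u a from e)).eq
      calc U * h * I * (a : Module.End F V) = U * h * ((a : Module.End F V) * I) := by
            rw [mul_assoc _ I, ← Units.val_mul, ea, Units.val_mul]
        _ = U * (h * a) * I := by simp only [mul_assoc]
        _ = U * (a * h) * I := by rw [hh a ha har]
        _ = (U * a) * h * I := by simp only [mul_assoc]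
        _ = (a * U) * h * I := by rw [← Units.val_mul, e, Units.val_mul]
        _ = _ := by simp only [mul_assoc]
    · have ea : u⁻¹ * a = -(a * u⁻¹) := by
        rw [inv_mul_eq_iff_eq_mul, mul_neg, ← mul_assoc, e, neg_mul, neg_neg, mul_inv_cancel_right]
      calc U * h * I * (a : Module.End F V) = U * h * (-((a : Module.End F V) * I)) := by
            rw [mul_assoc _ I, ← Units.val_mul, ea, Units.val_neg, Units.val_mul]
        _ = -(U * (h * a) * I) := by simp only [mul_assoc, mul_neg]
        _ = -(U * (a * h) * I) := by rw [hh a ha har]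
        _ = -((U * a) * h * I) := by simp only [mul_assoc]
        _ = (a * U) * h * I := by
          rw [← Units.val_mul, e, Units.val_neg, Units.val_mul, neg_mul, neg_mul, neg_neg]
        _ = _ := by simp only [mul_assoc]
  have hall : ∀ T : Module.End F V, T * U = U * T →
      (∀ a ∈ R, a * r = r * a → T * (a : Module.End F V) = a * T) →
      ∀ a ∈ R, T * (a : Module.End F V) = a * T := by
    intro T hTU hTc a ha
    rcases D.comm a ha r hr with e | e
    · exact hTc a ha e
    · have h' : a * u * r = r * (a * u) := by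
        rw [mul_assoc, hur, mul_neg, ← mul_assoc, e, neg_mul, neg_neg, mul_assoc]
      have k := hTc (a * u) (mul_mem ha hu) h'
      rw [Units.val_mul] at k
      calc T * (a : Module.End F V) = T * ((a : Module.End F V) * U) * I := by
            rw [mul_assoc, mul_assoc, hUI, mul_one]
        _ = (a : Module.End F V) * (U * T) * I := by rw [k, mul_assoc (a : Module.End F V) U T]
        _ = (a : Module.End F V) * T * (U * I) := by rw [← hTU]; simp only [mul_assoc]
        _ = _ := by rw [hUI, mul_one]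
  obtain ⟨c₁, h₁⟩ := D.scalar (h + U * h * I) (hall _
    (by rw [add_mul, mul_add, hconj, ← hconj', add_comm])
    (fun a ha har => by rw [add_mul, mul_add, hh a ha har, hcent a ha har]))
  obtain ⟨c₂, h₂⟩ := D.scalar ((h - U * h * I) * r') (hall _
    (by rw [← mul_assoc U, mul_sub U, hconj]; conv_rhs => rw [hconj']
        have hrU : r' * U = -(U * r') := by rw [hUr, neg_neg]
        rw [mul_assoc, hrU, mul_neg, ← mul_assoc, sub_mul, sub_mul, sub_mul, ← neg_sub]
        abel)
    (fun a ha har => by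
      have e : r' * (a : Module.End F V) = a * r' := by rw [← Units.val_mul, ← har, Units.val_mul]
      rw [mul_assoc, e, ← mul_assoc, sub_mul h, hh a ha har, hcent a ha har, ← mul_sub, mul_assoc]))
  have hII : r' * ((r⁻¹ : (Module.End F V)ˣ) : Module.End F V) = 1 := Units.mul_inv r
  have hrr : ∃ c : F, ((r⁻¹ : (Module.End F V)ˣ) : Module.End F V) = c • r' := by
    rcases D.sq r hr with e | e
    · exact ⟨1, by rw [inv_eq_of_mul_eq_one_right e, one_smul]⟩
    · exact ⟨-1, by rw [inv_eq_of_mul_eq_one_right (show r * -r = 1 by rw [mul_neg, e, neg_neg]),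
        Units.val_neg, neg_one_smul]⟩
  obtain ⟨c, hc⟩ := hrr
  have h₃ : h - U * h * I = (c₂ * c) • r' := by
    calc h - U * h * I = (h - U * h * I) * r' * ((r⁻¹ : (Module.End F V)ˣ) : Module.End F V) := by
          rw [mul_assoc (h - U * h * I), hII, mul_one]
      _ = _ := by rw [h₂, hc, smul_mul_assoc, one_mul, smul_smul]
  refine ⟨(2 : F)⁻¹ * c₁, (2 : F)⁻¹ * (c₂ * c), ?_⟩
  rw [← smul_smul, ← smul_smul (2 : F)⁻¹ (c₂ * c), ← h₁, ← h₃, ← smul_add,
    show h + U * h * I + (h - U * h * I) = h + h by abel, ← two_smul F h, smul_smul,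
    inv_mul_cancel₀ D.two_ne, one_smul]

/-- Conjugation by an element inducing signs on the centraliser of `r` in `R` agrees with an element
of this centraliser. -/
theorem exists_fix [Finite V] {H : Subgroup (Module.End F V)ˣ} (hH : R ≤ H) {r u γ : (Module.End F V)ˣ}
    (hr : r ∈ R) (hu : u ∈ R) (hur : u * r = -(r * u)) (hγr : γ * r = r * γ)
    (hγ : ∀ a ∈ R, a * r = r * a → γ * a * γ⁻¹ = a ∨ γ * a * γ⁻¹ = -a) :
    ∃ b ∈ R, b * r = r * b ∧ ∀ a ∈ R, a * r = r * a → b * γ * a = a * (b * γ) := by
  classical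
  let qf : (Module.End F V)ˣ → ZMod 2 := fun x => if γ * x * γ⁻¹ = x then 0 else 1
  have hsgn : ∀ a ∈ R, a * r = r * a → γ * a * γ⁻¹ = sg (qf a) * a := by
    intro a ha har
    dsimp only [qf]
    split_ifs with e
    · rw [sg_zero, one_mul, e]
    · rw [sg_one, neg_one_mul]
      exact (hγ a ha har).resolve_left e
  have hqneg : ∀ a, qf (-a) = qf a := by
    intro a; dsimp only [qf]
    refine if_congr ?_ rfl rfl
    rw [mul_neg, neg_mul, neg_inj]
  have hqadd : ∀ a ∈ R, a * r = r * a → ∀ b ∈ R, b * r = r * b → qf (a * b) = qf a + qf b := by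
    intro a ha har b hb hbr
    apply D.sg_inj
    refine mul_right_cancel (b := a * b) ?_
    rw [← hsgn _ (mul_mem ha hb) (Commute.mul_left har hbr), sg_add]
    calc γ * (a * b) * γ⁻¹ = (γ * a * γ⁻¹) * (γ * b * γ⁻¹) := by group
      _ = sg (qf a) * (a * sg (qf b)) * b := by rw [hsgn a ha har, hsgn b hb hbr]; group
      _ = _ := by rw [← sg_comm]; group
  let p : (Module.End F V)ˣ → (Module.End F V)ˣ := fun a => if a * r = r * a then a else a * u
  have hp : ∀ a ∈ R, p a ∈ R ∧ p a * r = r * p a := by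
    intro a ha
    dsimp only [p]
    split_ifs with e
    · exact ⟨ha, e⟩
    · refine ⟨mul_mem ha hu, ?_⟩
      rw [mul_assoc, hur, mul_neg, ← mul_assoc, (D.comm a ha r hr).resolve_left e, neg_mul, neg_neg,
        mul_assoc]
  have hpm : ∀ a ∈ R, ∀ b ∈ R, p (a * b) = p a * p b ∨ p (a * b) = -(p a * p b) := by
    intro a ha b hb
    have hcomm : ∀ x y : (Module.End F V)ˣ, x * r = -(r * x) → y * r = -(r * y) → x * y * r = r * (x * y) := by
      intro x y hx hy
      rw [mul_assoc, hy, mul_neg, ← mul_assoc, hx, neg_mul, neg_neg, mul_assoc]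
    dsimp only [p]
    rcases D.comm a ha r hr with e | e <;> rcases D.comm b hb r hr with e' | e'
    · rw [if_pos e, if_pos e', if_pos (Commute.mul_left (show Commute a r from e) e').eq]
      exact Or.inl rfl
    · have : a * b * r = -(r * (a * b)) := by rw [mul_assoc, e', mul_neg, ← mul_assoc, e, mul_assoc]
      rw [if_pos e, if_neg (fun h => D.ne_neg _ (e'.symm.trans h).symm),
        if_neg (fun h => D.ne_neg _ (this.symm.trans h).symm), mul_assoc]
      exact Or.inl rfl
    · have : a * b * r = -(r * (a * b)) := by rw [mul_assoc, e', ← mul_assoc, e, neg_mul, mul_assoc]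
      rw [if_neg (fun h => D.ne_neg _ (e.symm.trans h).symm), if_pos e',
        if_neg (fun h => D.ne_neg _ (this.symm.trans h).symm)]
      rcases D.comm b hb u hu with f | f
      · left; rw [mul_assoc, f, ← mul_assoc]
      · right; rw [mul_assoc, f, mul_neg, ← mul_assoc]
    · rw [if_neg (fun h => D.ne_neg _ (e.symm.trans h).symm), if_neg (fun h => D.ne_neg _ (e'.symm.trans h).symm),
        if_pos (hcomm a b e e')]
      rcases D.comm u hu b hb with f | f <;> rcases D.sq u hu with g | g
      · left; rw [show a * u * (b * u) = a * (u * b) * u by group, f, show a * (b * u) * u = a * b * (u * u) by group, g, mul_one]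
      · right; rw [show a * u * (b * u) = a * (u * b) * u by group, f, show a * (b * u) * u = a * b * (u * u) by group, g, mul_neg, mul_one, neg_neg]
      · right; rw [show a * u * (b * u) = a * (u * b) * u by group, f, mul_neg, neg_mul, show a * (b * u) * u = a * b * (u * u) by group, g, mul_one, neg_neg]
      · left; rw [show a * u * (b * u) = a * (u * b) * u by group, f, mul_neg, neg_mul, show a * (b * u) * u = a * b * (u * u) by group, g, mul_neg, mul_one, neg_neg]
  have hpn : ∀ a, p (-a) = -p a := by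
    intro a
    dsimp only [p]
    rw [neg_mul, mul_neg]
    simp only [neg_inj]
    split_ifs <;> simp
  obtain ⟨b, hb, hrep⟩ := D.exists_rep hH (fun a => qf (p a))
    (fun a ha b hb => by
      have := hqadd _ (hp a ha).1 (hp a ha).2 _ (hp b hb).1 (hp b hb).2
      rcases hpm a ha b hb with e | e
      · rw [e, this]
      · rw [e, hqneg, this])
    (fun a _ => by rw [hpn, hqneg])
  have hpe : ∀ a, a * r = r * a → p a = a := fun a h => if_pos h
  refine ⟨b, hb, bR_zero_iff.mp ?_, fun a ha har => ?_⟩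
  · rw [hrep r hr, hpe r rfl]
    exact if_pos (by rw [hγr, mul_inv_cancel_right])
  · have e1 := hsgn a ha har
    have e2 := D.conj_eq hb ha
    rw [hrep a ha, hpe a har] at e2
    refine mul_inv_eq_iff_eq_mul.mp ?_
    calc b * γ * a * (b * γ)⁻¹ = b * (γ * a * γ⁻¹) * b⁻¹ := by group
      _ = sg (qf a) * (b * a * b⁻¹) := by rw [e1, ← mul_assoc b, ← sg_comm]; group
      _ = sg (qf a) * sg (qf a) * a := by rw [e2]; group
      _ = a := by rw [← sg_add, CharTwo.add_self_eq_zero, sg_zero, one_mul]

section Fusion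

variable [Finite V] {H : Subgroup (Module.End F V)ˣ}
  (hN : normalizer (R : Set (Module.End F V)ˣ) ⊓ spSub ω ≤ H) (hH : H ≤ spSub ω)

theorem le_of_normalizer_le (hN : normalizer (R : Set (Module.End F V)ˣ) ⊓ spSub ω ≤ H) : R ≤ H :=
  le_trans (le_inf le_normalizer D.le) hN

include hN hH

theorem fus (hinv : ∀ s ∈ R, s * s = 1 → s ≠ 1 → s ≠ -1 → ∀ h ∈ H, h * s = s * h →
    h ∈ normalizer (R : Set (Module.End F V)ˣ)) : Fus (bar R H) (qbar R H) := by
  have hR := D.le_of_normalizer_le hN
  refine ⟨D.quad hR, ?_, ?_, ?_, ?_⟩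
  · rintro _ ⟨⟨s, hs'⟩, hs, rfl⟩ h1 hq g hg
    replace hs : s ∈ R := hs
    obtain ⟨⟨x, hx⟩, rfl⟩ := proj_surjective H g
    rw [D.qbar_proj hR (show ((⟨s, hs'⟩ : H) : (Module.End F V)ˣ) ∈ R from hs)] at hq
    have hs2 : s * s = 1 := qR_zero_iff.mp hq
    have hs1 : s ≠ 1 := by rintro rfl; exact h1 (map_one _)
    have hsn : s ≠ -1 := by
      rintro rfl
      exact h1 (((map_one (proj H)).symm.trans (proj_eq_iff.mpr (Or.inr rfl))).symm)
    rw [mem_centralizer_singleton_iff, ← map_mul, ← map_mul, proj_eq_iff] at hg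
    rw [D.normalizer_iff hR]
    show x ∈ _
    rcases hg with e | e
    · have e' : s * x = x * s := e
      first
        | exact hinv s hs hs2 hs1 hsn x hx e'.symm
        | exact hinv s hs hs2 hs1 hsn x hx e'
    · have e' : s * x = -(x * s) := e
      obtain ⟨u, hu, hus⟩ := D.anti_of_ne hs hs1 hsn
      have hxu := hinv s hs hs2 hs1 hsn (x * u) (mul_mem hx (hR hu))
        (by rw [mul_assoc, hus, mul_neg, ← mul_assoc, ← neg_mul, ← e', mul_assoc])
      have := mul_mem hxu (inv_mem (le_normalizer hu))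
      rwa [mul_inv_cancel_right] at this
  · intro g a ha hga
    obtain ⟨⟨x, hx⟩, rfl⟩ := proj_surjective H g
    obtain ⟨⟨s, hs'⟩, hs, rfl⟩ := ha
    replace hs : s ∈ R := hs
    rw [← map_inv, ← map_mul, ← map_mul] at hga ⊢
    rw [D.qbar_proj hR ((D.mem_bar hR).mp hga), D.qbar_proj hR (show ((⟨s, hs'⟩ : H) : (Module.End F V)ˣ) ∈ R from hs)]
    exact qR_conj _ _
  · rintro g ⟨hgN, hgC⟩
    obtain ⟨⟨x, hx⟩, rfl⟩ := proj_surjective H g
    have hxN := (D.normalizer_iff hR).mp hgN
    classical
    let f : (Module.End F V)ˣ → ZMod 2 := fun a => if x * a * x⁻¹ = a then 0 else 1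
    have hsgn : ∀ a ∈ R, x * a * x⁻¹ = sg (f a) * a := by
      intro a ha
      have e := mem_centralizer_iff.mp hgC (proj H ⟨a, hR ha⟩) ⟨⟨a, hR ha⟩, ha, rfl⟩
      rw [← map_mul, ← map_mul, proj_eq_iff] at e
      dsimp only [f]
      split_ifs with h
      · rw [sg_zero, one_mul, h]
      · rw [sg_one, neg_one_mul]
        rcases e with e | e
        · exact absurd (mul_inv_eq_iff_eq_mul.mpr e) h
        · rw [mul_inv_eq_iff_eq_mul, neg_mul]; exact e
    obtain ⟨b, hb, hrep⟩ := D.exists_rep hR f
      (fun a ha b hb => by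
        apply D.sg_inj
        refine mul_right_cancel (b := a * b) ?_
        rw [← hsgn _ (mul_mem ha hb), sg_add]
        calc x * (a * b) * x⁻¹ = (x * a * x⁻¹) * (x * b * x⁻¹) := by group
          _ = sg (f a) * (a * sg (f b)) * b := by rw [hsgn a ha, hsgn b hb]; group
          _ = _ := by rw [← sg_comm]; group)
      (fun a _ => by dsimp only [f]; refine if_congr ?_ rfl rfl; rw [mul_neg, neg_mul, neg_inj])
    obtain ⟨c, hc⟩ := D.scalar ((b * x : (Module.End F V)ˣ) : Module.End F V) (fun a ha => by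
      rw [← Units.val_mul, ← Units.val_mul]
      congr 1
      refine mul_inv_eq_iff_eq_mul.mp ?_
      calc b * x * a * (b * x)⁻¹ = b * (x * a * x⁻¹) * b⁻¹ := by group
        _ = sg (f a) * (b * a * b⁻¹) := by rw [hsgn a ha, ← mul_assoc b, ← sg_comm]; group
        _ = a := by rw [D.conj_eq hb ha, hrep a ha, ← mul_assoc, ← sg_add, CharTwo.add_self_eq_zero,
            sg_zero, one_mul])
    rw [D.mem_bar hR]
    show x ∈ R
    rw [show x = b⁻¹ * (b * x) by group]
    refine mul_mem (inv_mem hb) ?_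
    rcases D.scalar_sq (mul_mem (D.le hb) (hH hx)) hc with e | e <;> rw [e]
    · exact R.one_mem
    · exact D.neg
  · intro v hv w hw hqv hqw
    obtain ⟨⟨r, hr'⟩, hr, rfl⟩ := hv
    obtain ⟨⟨t, ht'⟩, ht, rfl⟩ := hw
    replace hr : r ∈ R := hr
    replace ht : t ∈ R := ht
    rw [D.qbar_proj hR (show ((⟨r, hr'⟩ : H) : (Module.End F V)ˣ) ∈ R from hr)] at hqv
    rw [D.qbar_proj hR (show ((⟨t, ht'⟩ : H) : (Module.End F V)ˣ) ∈ R from ht)] at hqw
    have hr2 := (D.qR_one_iff hr).mp hqv
    have ht2 := (D.qR_one_iff ht).mp hqw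
    have hn := D.pairElem_normalizer hr ht hr2 ht2
    let n : H := ⟨pairElem D.two_ne r t hr2 ht2, hN ⟨hn, D.pairElem_mem hr ht hr2 ht2⟩⟩
    refine ⟨proj H n, (D.normalizer_iff hR).mpr hn, ?_⟩
    rintro _ ⟨⟨a, ha'⟩, ha, rfl⟩ hpol
    replace ha : a ∈ R := ha
    rw [D.pol_proj hR ha ht, bR_zero_iff] at hpol
    have e1 := pairElem_conj D.two_ne hr2 ht2 a
    rw [tau_conj_of_comm D.two_ne ht2 hpol.symm] at e1
    rw [D.pol_proj hR ha hr, ← map_inv, ← map_mul, ← map_mul, ← map_mul]
    refine ⟨fun h => ?_, fun h => ?_⟩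
    · refine congrArg (proj H) (Subtype.ext ?_)
      show pairElem D.two_ne r t hr2 ht2 * a * (pairElem D.two_ne r t hr2 ht2)⁻¹ = a
      rw [e1, tau_conj_of_comm D.two_ne hr2 (bR_zero_iff.mp h).symm]
    · rw [proj_eq_iff]
      right
      show a * r = -(pairElem D.two_ne r t hr2 ht2 * a * (pairElem D.two_ne r t hr2 ht2)⁻¹)
      rw [e1, tau_conj_of_anti D.two_ne hr2 (by rw [(D.bR_one_iff ha hr).mp h, neg_neg])]
      exact (D.bR_one_iff ha hr).mp h

theorem half {c : H ⧸ (negs F V).subgroupOf H} (hc : c ∈ bar R H) (hqc : qbar R H c = 1) :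
    ∃ L, Half (bar R H) (qbar R H) c L := by
  have hR := D.le_of_normalizer_le hN
  obtain ⟨⟨r, hr'⟩, hr, rfl⟩ := hc
  replace hr : r ∈ R := hr
  rw [D.qbar_proj hR (show ((⟨r, hr'⟩ : H) : (Module.End F V)ˣ) ∈ R from hr)] at hqc
  have hr2 := (D.qR_one_iff hr).mp hqc
  have hr1 : r ≠ 1 := by rintro rfl; rw [one_mul] at hr2; exact D.neg_ne_one hr2.symm
  have hrn : r ≠ -1 := by rintro rfl; rw [neg_mul_neg, one_mul] at hr2; exact D.neg_ne_one hr2.symm
  obtain ⟨u, hu, hur⟩ := D.anti_of_ne hr hr1 hrn
  let L : Subgroup (H ⧸ (negs F V).subgroupOf H) :=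
    ((centralizer ({r} : Set (Module.End F V)ˣ)).subgroupOf H).map (proj H)
  have hL : ∀ {y : H}, proj H y ∈ L ↔ (y : (Module.End F V)ˣ) * r = r * y := by
    intro y
    refine ⟨?_, fun h => ⟨y, mem_centralizer_singleton_iff.mpr (by first | exact h | exact h.symm), rfl⟩⟩
    rintro ⟨z, hz, e⟩
    have hz' : (z : (Module.End F V)ˣ) * r = r * z := by
      first
        | exact mem_centralizer_singleton_iff.mp hz
        | exact (mem_centralizer_singleton_iff.mp hz).symm
    rcases proj_eq_iff.mp e with h | h <;> rw [h]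
    · exact hz'
    · rw [neg_mul, mul_neg, hz']
  have hpolc : ∀ {a : H}, (a : (Module.End F V)ˣ) ∈ R →
      pol (qbar R H) (proj H a) (proj H ⟨r, hr'⟩) = bR (a : (Module.End F V)ˣ) r :=
    fun ha => D.pol_proj hR ha (show ((⟨r, hr'⟩ : H) : (Module.End F V)ˣ) ∈ R from hr)
  have hnonscalar := D.not_scalar hr hr1 hrn
  refine ⟨L, ⟨?_, ?_, ?_, ?_, ?_, ?_, ?_⟩⟩
  · intro g hg
    obtain ⟨y, rfl⟩ := proj_surjective H g
    rw [mem_centralizer_singleton_iff, ← map_mul, ← map_mul]
    refine congrArg _ (Subtype.ext ?_)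
    first | exact hL.mp hg | exact (hL.mp hg).symm
  · rintro _ ⟨a, ha, rfl⟩ h
    replace ha : (a : (Module.End F V)ˣ) ∈ R := ha
    rw [hpolc ha] at h
    exact hL.mpr (bR_zero_iff.mp h)
  · rintro _ ⟨a, ha, rfl⟩ h h'
    replace ha : (a : (Module.End F V)ˣ) ∈ R := ha
    rw [hpolc ha, bR_zero_iff.mpr (hL.mp h')] at h
    exact zero_ne_one h
  · intro g hg hgL _ ha h
    obtain ⟨a, ha, rfl⟩ := ha
    replace ha : (a : (Module.End F V)ˣ) ∈ R := ha
    obtain ⟨y, rfl⟩ := proj_surjective H g
    rw [hpolc ha] at h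
    have h' := (D.bR_one_iff ha hr).mp h
    rw [mem_centralizer_singleton_iff, ← map_mul, ← map_mul, proj_eq_iff] at hg
    have hy : (y : (Module.End F V)ˣ) * r = -(r * y) := by
      have hne : (y : (Module.End F V)ˣ) * r ≠ r * y := fun e => hgL (hL.mpr e)
      rcases hg with e | e
      · first | exact absurd e hne | exact absurd e.symm hne
      · have e' : r * (y : (Module.End F V)ˣ) = -((y : (Module.End F V)ˣ) * r) := e
        rw [e', neg_neg]
    rw [← map_mul, hL]
    push_cast
    rw [mul_assoc, h', mul_neg, ← mul_assoc, hy, neg_mul, neg_neg, mul_assoc]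
  · intro w hw h hqw
    obtain ⟨⟨t, ht'⟩, ht, rfl⟩ := hw
    replace ht : t ∈ R := ht
    rw [hpolc ht, bR_zero_iff] at h
    rw [D.qbar_proj hR (show ((⟨t, ht'⟩ : H) : (Module.End F V)ˣ) ∈ R from ht)] at hqw
    have ht2 := (D.qR_one_iff ht).mp hqw
    have hn := D.pairElem_normalizer ht hr ht2 hr2
    let n : H := ⟨pairElem D.two_ne t r ht2 hr2, hN ⟨hn, D.pairElem_mem ht hr ht2 hr2⟩⟩
    refine ⟨proj H n, (D.normalizer_iff hR).mpr hn, hL.mpr (pairElem_commute D.two_ne ht2 hr2 h rfl), ?_, ?_⟩
    · rw [← map_mul, ← map_mul]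
      exact congrArg _ (Subtype.ext (pairElem_sq D.two_ne ht2 hr2 h))
    · rintro _ ⟨⟨a, ha'⟩, ha, rfl⟩ hpol
      replace ha : a ∈ R := ha
      rw [hpolc ha, bR_zero_iff] at hpol
      have e1 := pairElem_conj D.two_ne ht2 hr2 a
      rw [tau_conj_of_comm D.two_ne hr2 hpol.symm] at e1
      rw [D.pol_proj hR ha ht]
      rcases D.comm a ha t ht with e | e
      · rw [bR_zero_iff.mpr e, sel_zero, mul_one, ← map_inv, ← map_mul, ← map_mul]
        refine congrArg (proj H) (Subtype.ext ?_)
        show pairElem D.two_ne t r ht2 hr2 * a * (pairElem D.two_ne t r ht2 hr2)⁻¹ = a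
        rw [e1, tau_conj_of_comm D.two_ne ht2 e.symm]
      · rw [(D.bR_one_iff ha ht).mpr e, sel_one, ← map_inv, ← map_mul, ← map_mul, ← map_mul, proj_eq_iff]
        right
        show a * t = -(pairElem D.two_ne t r ht2 hr2 * a * (pairElem D.two_ne t r ht2 hr2)⁻¹)
        rw [e1, tau_conj_of_anti D.two_ne ht2 (by rw [e, neg_neg])]
        exact e
  · intro g _ hgL hfix
    obtain ⟨⟨x, hx⟩, rfl⟩ := proj_surjective H g
    have hxr : x * r = r * x := hL.mp hgL
    obtain ⟨b, hb, hbr, hcomm⟩ := D.exists_fix hR hr hu hur hxr (fun a ha har => by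
      have e := hfix (proj H ⟨a, hR ha⟩) ⟨⟨a, hR ha⟩, ha, rfl⟩ (by rw [hpolc ha, bR_zero_iff]; exact har)
      rw [← map_inv, ← map_mul, ← map_mul, proj_eq_iff] at e
      rcases e with e | e
      · exact Or.inl e.symm
      · right
        have e' : a = -(x * a * x⁻¹) := e
        exact (neg_eq_iff_eq_neg.mpr e').symm)
    refine ⟨proj H ⟨b, hR hb⟩, ⟨⟨b, hR hb⟩, hb, rfl⟩, by rw [hpolc hb, bR_zero_iff]; exact hbr, ?_⟩
    intro h hhL
    obtain ⟨⟨y, hy⟩, rfl⟩ := proj_surjective H h
    obtain ⟨α, β, e⟩ := D.comb_of_commute hr hu hur (h := ((b * x : (Module.End F V)ˣ) : Module.End F V))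
      (fun a ha har => by rw [← Units.val_mul, ← Units.val_mul, hcomm a ha har])
    simp only [← map_mul]
    refine congrArg _ (Subtype.ext (Units.ext ?_))
    show ((b * x * y : (Module.End F V)ˣ) : Module.End F V) = ((y * (b * x) : (Module.End F V)ˣ) : Module.End F V)
    have hyr : (y : Module.End F V) * r = r * y := by
      rw [← Units.val_mul, ← Units.val_mul, hL.mp hhL]
    rw [Units.val_mul (b * x), Units.val_mul y, e, add_mul, mul_add, smul_mul_assoc, smul_mul_assoc,
      mul_smul_comm, mul_smul_comm, one_mul, mul_one, hyr]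
  · intro g hgN hgL hg2 hall hfix
    obtain ⟨⟨x, hx⟩, rfl⟩ := proj_surjective H g
    have hxr : x * r = r * x := hL.mp hgL
    obtain ⟨b, hb, hbr, hcomm⟩ := D.exists_fix hR hr hu hur hxr (fun a ha har => by
      have e := hfix (proj H ⟨a, hR ha⟩) ⟨⟨a, hR ha⟩, ha, rfl⟩ (by rw [hpolc ha, bR_zero_iff]; exact har)
      rw [← map_inv, ← map_mul, ← map_mul, proj_eq_iff] at e
      rcases e with e | e
      · exact Or.inl e.symm
      · right
        have e' : a = -(x * a * x⁻¹) := e
        exact (neg_eq_iff_eq_neg.mpr e').symm)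
    obtain ⟨α, β, hαβ⟩ := D.comb_of_commute hr hu hur (h := ((b * x : (Module.End F V)ˣ) : Module.End F V))
      (fun a ha har => by rw [← Units.val_mul, ← Units.val_mul, hcomm a ha har])
    have hsq : ∀ t ∈ R, t * r = r * t → t * t = -1 → b * t = t * b := by
      intro t ht htr ht2
      by_contra hbt
      have hbt' := (D.comm b hb t ht).resolve_left hbt
      have hn := D.pairElem_normalizer ht hr ht2 hr2
      have hnr := pairElem_commute D.two_ne ht2 hr2 htr rfl
      let n : H := ⟨pairElem D.two_ne t r ht2 hr2, hN ⟨hn, D.pairElem_mem ht hr ht2 hr2⟩⟩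
      have e := hall (proj H n) (hL.mpr hnr)
      rw [← map_mul, ← map_mul, proj_eq_iff] at e
      replace e : pairElem D.two_ne t r ht2 hr2 * x = x * pairElem D.two_ne t r ht2 hr2 ∨
          pairElem D.two_ne t r ht2 hr2 * x = -(x * pairElem D.two_ne t r ht2 hr2) := e
      set N := pairElem D.two_ne t r ht2 hr2 with hNdef
      have hNc : N * (b * x) = b * x * N := by
        refine Units.ext ?_
        rw [Units.val_mul N, Units.val_mul (b * x), hαβ]
        have : (N : Module.End F V) * r = r * N := by rw [← Units.val_mul, ← Units.val_mul, hnr]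
        rw [mul_add, add_mul, smul_mul_assoc, smul_mul_assoc, mul_smul_comm, mul_smul_comm, one_mul,
          mul_one, this]
      have hconj : N * b * N⁻¹ = t * b := by
        rw [hNdef, pairElem_conj, tau_conj_of_comm D.two_ne hr2 hbr.symm,
          tau_conj_of_anti D.two_ne ht2 (by rw [hbt', neg_neg])]
      have hconj' : N * b = t * b * N := mul_inv_eq_iff_eq_mul.mp hconj
      rcases e with e | e
      · have : t * (b * (x * N)) = b * (x * N) := by
          calc t * (b * (x * N)) = t * b * (N * x) := by rw [e, mul_assoc]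
            _ = N * (b * x) := by rw [← mul_assoc, ← hconj', mul_assoc]
            _ = b * (x * N) := by rw [hNc, mul_assoc]
        have ht1 : t = 1 := mul_eq_right.mp this
        rw [ht1, one_mul] at ht2
        exact D.neg_ne_one ht2.symm
      · have : -t * (b * (x * N)) = b * (x * N) := by
          calc -t * (b * (x * N)) = t * b * (N * x) := by
                rw [e, mul_neg, neg_mul, mul_assoc]
            _ = N * (b * x) := by rw [← mul_assoc, ← hconj', mul_assoc]
            _ = b * (x * N) := by rw [hNc, mul_assoc]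
        have ht1 : -t = 1 := mul_eq_right.mp this
        rw [neg_eq_iff_eq_neg.mp ht1, neg_mul_neg, one_mul] at ht2
        exact D.neg_ne_one ht2.symm
    have hbc : ∀ a ∈ R, a * r = r * a → b * a = a * b := by
      intro a ha har
      rcases D.sq a ha with e | e
      · have h := hsq (a * r) (mul_mem ha hr) (Commute.mul_left (show Commute a r from har) rfl)
          (by rw [show a * r * (a * r) = a * (r * a) * r by group, ← har,
            show a * (a * r) * r = (a * a) * (r * r) by group, e, hr2, one_mul])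
        refine mul_right_cancel (b := r) ?_
        rw [mul_assoc b, h, mul_assoc a b, hbr, mul_assoc a r b]
      · exact hsq a ha har e
    obtain ⟨α, β, e⟩ := D.comb_of_commute hr hu hur (h := (x : Module.End F V)) (fun a ha har => by
      rw [← Units.val_mul, ← Units.val_mul]
      congr 1
      have := hcomm a ha har
      refine mul_left_cancel (a := b) ?_
      rw [← mul_assoc, this, ← mul_assoc, ← hbc a ha har, mul_assoc])
    have hform : α * α + β * β = 1 := by
      obtain ⟨v, w, hvw⟩ := D.exists_form_ne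
      have := hH hx v w
      rw [e, D.form_combination hr hr2] at this
      exact (mul_eq_right₀ hvw).mp this
    rw [← map_mul, ← map_one (proj H), proj_eq_iff] at hg2
    obtain ⟨d, hd⟩ : ∃ d : F, (x : Module.End F V) * x = d • 1 := by
      rcases hg2 with h | h
      · exact ⟨1, by rw [one_smul, ← Units.val_mul]; exact congrArg Units.val h.symm⟩
      · refine ⟨-1, ?_⟩
        have h' : (1 : (Module.End F V)ˣ) = -(x * x) := h
        rw [neg_one_smul, ← Units.val_mul, ← neg_eq_iff_eq_neg.mpr h', Units.val_neg, Units.val_one]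
    have hprod : α * β = 0 := by
      by_contra hne
      have hrr : (r : Module.End F V) * r = -1 := by rw [← Units.val_mul, hr2]; simp
      rw [e] at hd
      simp only [add_mul, mul_add, smul_mul_assoc, mul_smul_comm, one_mul, mul_one, hrr, smul_add, smul_neg,
        smul_smul] at hd
      have key : (2 * (α * β)) • (r : Module.End F V) = (d - (α * α - β * β)) • 1 := by
        rw [sub_smul d, ← hd, sub_smul, mul_comm β α, two_mul, add_smul]; abel
      refine hnonscalar ((2 * (α * β))⁻¹ * (d - (α * α - β * β))) ?_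
      rw [← smul_smul, ← key, smul_smul, inv_mul_cancel₀ (mul_ne_zero D.two_ne hne), one_smul]
    rcases mul_eq_zero.mp hprod with h | h
    · right
      rw [h, zero_mul, zero_add] at hform
      rw [proj_eq_iff]
      rcases mul_self_eq_one_iff.mp hform with hb | hb
      · left; exact Units.ext (by rw [e, h, hb, zero_smul, zero_add, one_smul])
      · right; exact Units.ext (by
          rw [Units.val_neg, e, h, hb, zero_smul, zero_add, neg_one_smul, neg_neg])
    · left
      rw [h, zero_smul, add_zero] at e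
      rw [← map_one (proj H), proj_eq_iff]
      rcases D.scalar_sq (hH hx) e with hb | hb
      · left; exact hb.symm
      · right
        show (1 : (Module.End F V)ˣ) = -x
        rw [hb, neg_neg]

omit hH in
theorem noSingularEight (hk : k = 3) : NoSingularEight (bar R H) (qbar R H) := by
  have hR := D.le_of_normalizer_le hN
  have hQ := D.quad hR
  intro _ ha' _ hb' _ hc' hqa hqb hqc hab hac hbc
  obtain ⟨a, ha, rfl⟩ := ha'
  obtain ⟨b, hb, rfl⟩ := hb'
  obtain ⟨c, hc, rfl⟩ := hc'
  replace ha : (a : (Module.End F V)ˣ) ∈ R := ha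
  replace hb : (b : (Module.End F V)ˣ) ∈ R := hb
  replace hc : (c : (Module.End F V)ˣ) ∈ R := hc
  by_contra! hne
  obtain ⟨hna, hnb, hnc, hnab, hnac, hnbc, hnabc⟩ := hne
  rw [D.qbar_proj hR ha, qR_zero_iff] at hqa
  rw [D.qbar_proj hR hb, qR_zero_iff] at hqb
  rw [D.qbar_proj hR hc, qR_zero_iff] at hqc
  rw [D.pol_proj hR ha hb, bR_zero_iff] at hab
  rw [D.pol_proj hR ha hc, bR_zero_iff] at hac
  rw [D.pol_proj hR hb hc, bR_zero_iff] at hbc
  set x : (Module.End F V)ˣ := (a : (Module.End F V)ˣ)
  set y : (Module.End F V)ˣ := (b : (Module.End F V)ˣ)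
  set z : (Module.End F V)ˣ := (c : (Module.End F V)ˣ)
  let S : Set (Module.End F V)ˣ := {-1, x, y, z}
  have hS : ∀ g ∈ S, ∀ h ∈ S, g * h = h * g := by
    intro g hg h hh
    simp only [S, Set.mem_insert_iff, Set.mem_singleton_iff] at hg hh
    rcases hg with rfl | rfl | rfl | rfl <;> rcases hh with rfl | rfl | rfl | rfl <;>
      first | rfl | simp only [neg_mul, mul_neg, one_mul, mul_one] | assumption | exact Eq.symm ‹_›
  let E := Subgroup.closure S
  have hcom : ∀ g ∈ E, ∀ h ∈ E, g * h = h * g := by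
    have h1 : E ≤ centralizer S := (closure_le _).mpr fun g hg => mem_centralizer_iff.mpr fun h hh => hS h hh g hg
    have h2 : E ≤ centralizer (E : Set (Module.End F V)ˣ) := (closure_le _).mpr fun g hg =>
      mem_centralizer_iff.mpr fun h hh => (mem_centralizer_iff.mp (h1 hh) g hg).symm
    exact fun g hg h hh => (mem_centralizer_iff.mp (h2 hg) h hh).symm
  have hsq : ∀ g ∈ E, g * g = 1 := by
    intro g hg
    refine closure_induction (p := fun g _ => g * g = 1) ?_ (mul_one 1) ?_ ?_ hg
    · intro g hg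
      simp only [S, Set.mem_insert_iff, Set.mem_singleton_iff] at hg
      rcases hg with rfl | rfl | rfl | rfl
      · simp
      all_goals assumption
    · intro g h hg hh e e'
      rw [show g * h * (g * h) = g * (h * g) * h by group, ← hcom g hg h hh,
        show g * (g * h) * h = (g * g) * (h * h) by group, e, e', one_mul]
    · intro g _ e
      rw [← mul_inv_rev, e, inv_one]
  have hER : E ≤ R := (closure_le _).mpr fun g hg => by
    simp only [S, Set.mem_insert_iff, Set.mem_singleton_iff] at hg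
    rcases hg with rfl | rfl | rfl | rfl
    exacts [D.neg, ha, hb, hc]
  have hm := D.minus E hER hcom hsq
  let g : ZMod 2 × ZMod 2 × ZMod 2 → H := fun p => sel p.1 a * sel p.2.1 b * sel p.2.2 c
  have hselE : ∀ (i : ZMod 2) (w : H), (w : (Module.End F V)ˣ) ∈ E → ((sel i w : H) : (Module.End F V)ˣ) ∈ E := by
    intro i w hw; unfold sel; split_ifs
    · exact E.one_mem
    · exact hw
  have hgE : ∀ p, ((g p : H) : (Module.End F V)ˣ) ∈ E := fun p =>
    mul_mem (mul_mem (hselE _ _ (subset_closure (by simp [S, x])))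
      (hselE _ _ (subset_closure (by simp [S, y])))) (hselE _ _ (subset_closure (by simp [S, z])))
  let f : ZMod 2 × ZMod 2 × ZMod 2 × ZMod 2 → E := fun p =>
    ⟨sg p.1 * ((g p.2 : H) : (Module.End F V)ˣ), mul_mem (by
      unfold sg; split_ifs
      · exact E.one_mem
      · exact subset_closure (by simp [S])) (hgE _)⟩
  have hA : ∀ {w : H}, (w : (Module.End F V)ˣ) ∈ R → proj H w ∈ bar R H := fun h => (D.mem_bar hR).mpr h
  have hg1 : ∀ p, proj H (g p) = 1 → p = 0 := by
    have h01 : ∀ i : ZMod 2, i = 0 ∨ i = 1 := by decide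
    have hi : ∀ w : H ⧸ (negs F V).subgroupOf H, w ∈ bar R H → w⁻¹ = w := fun w hw => hQ.inv_self hw
    rintro ⟨i, j, l⟩ h
    rcases h01 i with rfl | rfl <;> rcases h01 j with rfl | rfl <;> rcases h01 l with rfl | rfl <;>
      simp only [g, sel_zero, sel_one, one_mul, mul_one, map_mul] at h
    · rfl
    · exact absurd h hnc
    · exact absurd h hnb
    · exact absurd (by rw [eq_inv_of_mul_eq_one_left h, hi _ (hA hc)]) hnbc
    · exact absurd h hna
    · exact absurd (by rw [eq_inv_of_mul_eq_one_left h, hi _ (hA hc)]) hnac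
    · exact absurd (by rw [eq_inv_of_mul_eq_one_left h, hi _ (hA hb)]) hnab
    · exact absurd (by rw [eq_inv_of_mul_eq_one_left h, hi _ (hA hc)]) hnabc
  have hgadd : ∀ p p', proj H (g (p + p')) = proj H (g p) * proj H (g p') := by
    have hsel : ∀ (i j : ZMod 2) (w : H ⧸ (negs F V).subgroupOf H), w ∈ bar R H →
        sel (i + j) w = sel i w * sel j w := by
      intro i j w hw
      have h01 : ∀ i : ZMod 2, i = 0 ∨ i = 1 := by decide
      rcases h01 i with rfl | rfl <;> rcases h01 j with rfl | rfl <;>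
        simp [sel_zero, sel_one, CharTwo.add_self_eq_zero, hQ.sq w hw]
    have hmap : ∀ (i : ZMod 2) (w : H), proj H (sel i w) = sel i (proj H w) := by
      intro i w; unfold sel; split_ifs <;> simp
    have hmem : ∀ (i : ZMod 2) (w : H ⧸ (negs F V).subgroupOf H), w ∈ bar R H → sel i w ∈ bar R H := by
      intro i w hw; unfold sel; split_ifs
      · exact one_mem _
      · exact hw
    rintro ⟨i, j, l⟩ ⟨i', j', l'⟩
    simp only [g, Prod.mk_add_mk, map_mul, hmap, hsel _ _ _ (hA ha), hsel _ _ _ (hA hb), hsel _ _ _ (hA hc)]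
    have c1 := hQ.comm (hmem i' _ (hA ha)) (hmem j _ (hA hb))
    have c2 := hQ.comm (mul_mem (hmem i' _ (hA ha)) (hmem j' _ (hA hb))) (hmem l _ (hA hc))
    calc sel i (proj H a) * sel i' (proj H a) * (sel j (proj H b) * sel j' (proj H b)) * (sel l (proj H c) * sel l' (proj H c))
        = sel i (proj H a) * (sel i' (proj H a) * sel j (proj H b)) * sel j' (proj H b) * (sel l (proj H c) * sel l' (proj H c)) := by group
      _ = sel i (proj H a) * sel j (proj H b) * ((sel i' (proj H a) * sel j' (proj H b)) * sel l (proj H c)) * sel l' (proj H c) := by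
        rw [c1]; group
      _ = _ := by rw [c2]; group
  have hf : Function.Injective f := by
    rintro ⟨s, p⟩ ⟨s', p'⟩ e
    have e' : sg s * ((g p : H) : (Module.End F V)ˣ) = sg s' * ((g p' : H) : (Module.End F V)ˣ) := congrArg Subtype.val e
    have hp : proj H (g p) = proj H (g p') := by
      rw [proj_eq_iff]
      revert e'
      unfold sg
      split_ifs <;> intro e' <;> simp only [one_mul, neg_one_mul] at e'
      · exact Or.inl e'.symm
      · right; rw [← neg_eq_iff_eq_neg]; exact e'.symm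
      · right; exact e'.symm
      · exact Or.inl (neg_inj.mp e').symm
    have hgp : proj H (g p) ∈ bar R H := hA (hER (hgE p))
    have h0 : p + p' = 0 := hg1 _ (by rw [hgadd, ← hp, hQ.sq _ hgp])
    obtain rfl : p = p' := by
      have : p + p = 0 := by
        obtain ⟨i, j, l⟩ := p
        simp [CharTwo.add_self_eq_zero]
      exact add_left_cancel (this.trans h0.symm)
    rw [D.sg_inj (mul_right_cancel e')]
  have := Nat.card_le_card_of_injective f hf
  simp only [Nat.card_prod, Nat.card_zmod] at this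
  subst hk
  omega

/-- The fusion step. -/
theorem le_normalizer_of_centralizer (hk : 3 ≤ k)
    (hinv : ∀ s ∈ R, s * s = 1 → s ≠ 1 → s ≠ -1 → ∀ h ∈ H, h * s = s * h →
      h ∈ normalizer (R : Set (Module.End F V)ˣ)) : H ≤ normalizer (R : Set (Module.End F V)ˣ) := by
  have hR := D.le_of_normalizer_le hN
  have hQ := D.quad hR
  have hcard := D.card_bar hR
  have hsz : 256 ≤ Nat.card (bar R H) ∨ Nat.card (bar R H) = 64 := by
    rcases Nat.eq_or_lt_of_le hk with h | h
    · right; rw [hcard, ← h]; rfl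
    · left; rw [hcard]
      exact le_trans (by norm_num) (Nat.pow_le_pow_right two_pos (show 8 ≤ 2 * k by omega))
  have h01 : ∀ i : ZMod 2, i = 0 ∨ i = 1 := by decide
  obtain ⟨a, ha, ha1⟩ := (Subgroup.one_lt_card_iff_ne_bot _).mp (show 1 < Nat.card (bar R H) by omega) |>
    (Subgroup.ne_bot_iff_exists_ne_one.mp ·) |>
    fun ⟨⟨a, ha⟩, h⟩ => (⟨a, ha, fun e => h (Subtype.ext e)⟩ : ∃ a, a ∈ bar R H ∧ a ≠ 1)
  obtain ⟨c₀, hc₀, hac⟩ := hQ.nondeg a ha ha1
  obtain ⟨c, hc, hqc⟩ : ∃ c ∈ bar R H, qbar R H c = 1 := by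
    by_contra! h
    have h0 : ∀ c ∈ bar R H, qbar R H c = 0 := fun c hc => (h01 _).resolve_right (h c hc)
    exact hac (by rw [pol, h0 _ (mul_mem ha hc₀), h0 _ ha, h0 _ hc₀]; rfl)
  obtain ⟨a, ha, ha1, hqa⟩ : ∃ a ∈ bar R H, a ≠ 1 ∧ qbar R H a = 0 := by
    by_contra! h
    have h1 : ∀ a ∈ bar R H, a ≠ 1 → qbar R H a = 1 := fun a ha ha1 => (h01 _).resolve_left (h a ha ha1)
    have hp : ∀ a ∈ bar R H, ∀ b ∈ bar R H, a ≠ 1 → b ≠ 1 → a ≠ b → pol (qbar R H) a b = 1 := by
      intro a ha b hb ha1 hb1 hab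
      have : a * b ≠ 1 := fun e => hab (by rw [eq_inv_of_mul_eq_one_left e, hQ.inv_self hb])
      rw [pol, h1 _ (mul_mem ha hb) this, h1 a ha ha1, h1 b hb hb1]; decide
    have hc1 := hQ.ne_one hqc
    let S := hQ.adj ⊥ bot_le c hc
    have hS : S ≤ bar R H := hQ.adj_le bot_le hc
    obtain ⟨b, hb, hbS⟩ : ∃ b ∈ bar R H, b ∉ S := by
      by_contra! h'
      have := Subgroup.card_le_of_le (show bar R H ≤ S from h')
      have : Nat.card S ≤ 2 := (hQ.card_adj bot_le hc).trans (by simp)
      omega
    have hcS : c ∈ S := hQ.mem_adj bot_le hc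
    have hb1 : b ≠ 1 := fun e => hbS (e ▸ S.one_mem)
    have hbc : b ≠ c := fun e => hbS (e ▸ hcS)
    have hbc1 : b * c ≠ 1 := fun e => hbc (by rw [eq_inv_of_mul_eq_one_left e, hQ.inv_self hc])
    let T := hQ.adj S hS b hb
    have hT : T ≤ bar R H := hQ.adj_le hS hb
    obtain ⟨d, hd, hdT⟩ : ∃ d ∈ bar R H, d ∉ T := by
      by_contra! h'
      have := Subgroup.card_le_of_le (show bar R H ≤ T from h')
      have h2 : Nat.card T ≤ 2 * Nat.card S := hQ.card_adj hS hb
      have : Nat.card S ≤ 2 := (hQ.card_adj bot_le hc).trans (by simp)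
      omega
    have hbT : b ∈ T := hQ.mem_adj hS hb
    have hcT : c ∈ T := hQ.le_adj hS hb hcS
    have hd1 : d ≠ 1 := fun e => hdT (e ▸ T.one_mem)
    have e := hp (b * c) (mul_mem hb hc) d hd hbc1 hd1 (fun e => hdT (e ▸ mul_mem hbT hcT))
    rw [hQ.add b hb c hc d hd, hp b hb d hd hb1 hd1 (fun e => hdT (e ▸ hbT)),
      hp c hc d hd hc1 hd1 (fun e => hdT (e ▸ hcT))] at e
    exact absurd e (by decide)
  have htop := (D.fus hN hH hinv).normalizer_eq_top hsz
    (fun h64 => D.noSingularEight hN (by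
      rcases Nat.eq_or_lt_of_le hk with h | h
      · exact h.symm
      · exfalso
        rw [hcard] at h64
        have := Nat.pow_le_pow_right two_pos (show 8 ≤ 2 * k by omega)
        omega))
    (fun c hc hqc => D.half hN hH hc hqc) ha ha1 hqa hc hqc
  intro x hx
  have : proj H ⟨x, hx⟩ ∈ normalizer (bar R H : Set (H ⧸ (negs F V).subgroupOf H)) := by rw [htop]; trivial
  exact (D.normalizer_iff hR).mp this

end Fusion

end Ext

end Cfsg.Agent.Lib.Sym78
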