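import Cfsg.Agent.Lib.Sym78.Step
import Cfsg.Agent.Lib.Sym78T.Base
import Cfsg.Agent.Lib.Sym78T.Proper
import Cfsg.Agent.Lib.Sym78T.Gen

/-!
Maximality of the normaliser of a group of symplectic type of minus type in the isometry group of an
alternating space over a prime field.
-/

set_option autoImplicit false
set_option linter.style.haveILetI false

namespace Cfsg.Agent.Lib.Sym78

open Subgroup
open Cfsg.Geo (IsMaximalIn)

universe v

variable {F : Type*} [Field F]

/-- An overgroup of the normaliser normalises the group or contains every transvection. -/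
theorem normalises_or_full [Fintype F] (hp : (Fintype.card F).Prime) :
    ∀ (j : ℕ) {V : Type v} [AddCommGroup V] [Module F V] [Finite V] {ω : LinearMap.BilinForm F V}
      {R : Subgroup (Module.End F V)ˣ}, Ext ω (j + 2) R → ∀ {H : Subgroup (Module.End F V)ˣ},
      normalizer (R : Set (Module.End F V)ˣ) ⊓ spSub ω ≤ H → H ≤ spSub ω →
      H ≤ normalizer (R : Set (Module.End F V)ˣ) ∨ Full ω H := by
  intro j
  induction j with
  | zero =>
    intro V _ _ _ ω R D H hN hH
    rcases (Sym78T.isMaximalIn_two D hp).2 H hN hH with e | e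
    · exact Or.inl (e ▸ inf_le_left)
    · exact Or.inr fun g v c hg => e ▸ hg.mem_spSub D.alt
  | succ j ih =>
    intro V _ _ _ ω R D H hN hH
    have D' : Ext ω (j + 2 + 1) R := D
    have hlow : LowerStep ω R := fun s u S H' h1 h2 => ih (D'.res S) h1 h2
    by_cases hf : Full ω H
    · exact Or.inr hf
    refine Or.inl (D.le_normalizer_of_centralizer hN hH (by omega) fun s hs hs2 hs1 hsn => ?_)
    exact (Ext.centralizer_or_full D' (by omega) hlow hN hH hs hs2 hs1 hsn).resolve_right hf

/-- The normaliser is maximal. -/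
theorem isMaximalIn_normalizer [Fintype F] (hp : (Fintype.card F).Prime) {V : Type v} [AddCommGroup V]
    [Module F V] [Finite V] {ω : LinearMap.BilinForm F V} {k : ℕ} {R : Subgroup (Module.End F V)ˣ}
    (D : Ext ω k R) (hk : 2 ≤ k) :
    IsMaximalIn (spSub ω) (normalizer (R : Set (Module.End F V)ˣ) ⊓ spSub ω) := by
  obtain ⟨j, rfl⟩ : ∃ j, k = j + 2 := ⟨k - 2, by omega⟩
  refine ⟨Sym78T.normalizer_lt D hk, fun H hN hH => ?_⟩
  rcases normalises_or_full hp j D hN hH with h | h
  · exact Or.inl (le_antisymm (le_inf h hH) hN)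
  · exact Or.inr (le_antisymm hH (Sym78T.spSub_le_of_full (k := j + 1) D h))

/-- The matrix form. -/
theorem isMaximalIn_spGL_normalizer [Fintype F] {p m k : ℕ} (hm : 1 ≤ m) (hp : p.Prime) (hpo : Odd p)
    (hF : Fintype.card F = p) (R : Subgroup (Matrix.GeneralLinearGroup (Fin m ⊕ Fin m) F))
    (hR : Cfsg.Geo.IsSymplecticTypeGroup 2 R)
    (hirr : Cfsg.Geo.ActsAbsolutelyIrreducibly (Cfsg.Geo.matrixSet R))
    (hRD : R ≤ Cfsg.spGL m F) (hcard : Nat.card R = 2 ^ (1 + 2 * k))
    (hZ : Nat.card (Subgroup.center R) = 2) (hminus : Cfsg.Geo.IsOfMinusType k R) (hk : 2 ≤ k) :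
    IsMaximalIn (Cfsg.spGL m F) (Cfsg.Geo.subgroupNormalizer R ⊓ Cfsg.spGL m F) :=
  Sym78T.isMaximalIn_of_hyps hm hp hpo hF R hR hirr hRD hcard hZ hminus fun _ D =>
    isMaximalIn_normalizer (hF ▸ hp) D hk

end Cfsg.Agent.Lib.Sym78
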