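import Cfsg.Agent.Lib.SympFusion78.Singular
import Cfsg.Agent.Lib.SympFusion78.Alt

/-!
In the normaliser of an elementary abelian group with a quadratic form of minus type, a normal
subgroup which does not centralise the group has an element fixing a singular vector and moving
some orthogonal vector out of its orthogonal.
-/

set_option autoImplicit false
set_option linter.style.haveILetI false

namespace Cfsg.Agent.Lib.SympFusion78

open Subgroup

variable {G : Type*} [Group G]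

/-- The transvection of a form. -/
def tr (q : G → ZMod 2) (v x : G) : G := x * sel (pol q x v) v

/-- All products of two transvections are induced by the normaliser. -/
def FullPairs (A : Subgroup G) (q : G → ZMod 2) : Prop :=
  ∀ v ∈ A, ∀ w ∈ A, q v = 1 → q w = 1 → ∃ h ∈ normalizer (A : Set G),
    ∀ x ∈ A, h * x * h⁻¹ = tr q v (tr q w x)

/-- No two commuting singular elements. -/
def NoSingularFour (A : Subgroup G) (q : G → ZMod 2) : Prop :=
  ∀ a ∈ A, ∀ b ∈ A, q a = 0 → q b = 0 → pol q a b = 0 → a = 1 ∨ b = 1 ∨ a = b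

/-- The element moves some vector orthogonal to a fixed singular one out of its orthogonal. -/
def GoodMove (A : Subgroup G) (q : G → ZMod 2) (M : Subgroup G) : Prop :=
  ∃ g ∈ M, ∃ s ∈ A, s ≠ 1 ∧ q s = 0 ∧ g * s * g⁻¹ = s ∧
    ∃ c ∈ A, pol q c s = 0 ∧ pol q (g * c * g⁻¹) c = 1

namespace Quad

variable {A : Subgroup G} {q : G → ZMod 2} (hQ : Quad A q)
include hQ

omit hQ in
theorem tr_zero {v x : G} (h : pol q x v = 0) : tr q v x = x := by rw [tr, h, sel_zero, mul_one]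

omit hQ in
theorem tr_one {v x : G} (h : pol q x v = 1) : tr q v x = x * v := by rw [tr, h, sel_one]

omit hQ in
theorem sel_mem {S : Subgroup G} {v : G} (hv : v ∈ S) (i : ZMod 2) : sel i v ∈ S := by
  unfold sel; split_ifs
  · exact one_mem _
  · exact hv

theorem tr_mem {v x : G} (hv : v ∈ A) (hx : x ∈ A) : tr q v x ∈ A := mul_mem hx (sel_mem hv _)

theorem pol_sel_left {v x : G} (hv : v ∈ A) (hx : x ∈ A) (i : ZMod 2) : pol q (sel i v) x = i * pol q v x := by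
  have h01 : ∀ i : ZMod 2, i = 0 ∨ i = 1 := by decide
  rcases h01 i with rfl | rfl
  · rw [sel_zero, hQ.pol_one hx, zero_mul]
  · rw [sel_one, one_mul]

theorem pol_tr_left {v x y : G} (hv : v ∈ A) (hx : x ∈ A) (hy : y ∈ A) :
    pol q (tr q v x) y = pol q x y + pol q x v * pol q v y := by
  rw [tr, hQ.add x hx _ (sel_mem hv _) y hy, hQ.pol_sel_left hv hy]

theorem pol_tr {v x y : G} (hv : v ∈ A) (hx : x ∈ A) (hy : y ∈ A) :
    pol q (tr q v x) (tr q v y) = pol q x y := by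
  have hy' := hQ.tr_mem hv hy
  rw [hQ.pol_tr_left hv hx hy', hQ.pol_comm hx hy', hQ.pol_comm hv hy', hQ.pol_tr_left hv hy hx,
    hQ.pol_tr_left hv hy hv, hQ.pol_self hv, mul_zero, add_zero, hQ.pol_comm hv hx, hQ.pol_comm hy hx,
    mul_comm (pol q y v), add_assoc, CharTwo.add_self_eq_zero, add_zero]

theorem q_tr {v x : G} (hv : v ∈ A) (hx : x ∈ A) (hqv : q v = 1) : q (tr q v x) = q x := by
  have h01 : ∀ i : ZMod 2, i = 0 ∨ i = 1 := by decide
  rcases h01 (pol q x v) with e | e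
  · rw [tr_zero e]
  · rw [tr_one e, hQ.q_mul hx hv, hqv, e, add_assoc, CharTwo.add_self_eq_zero, add_zero]

theorem tr_mul {v x y : G} (hv : v ∈ A) (hx : x ∈ A) (hy : y ∈ A) :
    tr q v (x * y) = tr q v x * tr q v y := by
  have hs : ∀ i j : ZMod 2, sel (i + j) v = sel i v * sel j v := by
    intro i j
    have h01 : ∀ i : ZMod 2, i = 0 ∨ i = 1 := by decide
    rcases h01 i with rfl | rfl <;> rcases h01 j with rfl | rfl <;>
      simp [sel_zero, sel_one, CharTwo.add_self_eq_zero, hQ.sq v hv]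
  unfold tr
  rw [hQ.add x hx y hy v hv, hs]
  have c := hQ.comm hy (sel_mem hv (pol q x v))
  calc x * y * (sel (pol q x v) v * sel (pol q y v) v)
      = x * (y * sel (pol q x v) v) * sel (pol q y v) v := by group
    _ = _ := by rw [c]; group

theorem tr_tr {v x : G} (hv : v ∈ A) (hx : x ∈ A) : tr q v (tr q v x) = x := by
  have h01 : ∀ i : ZMod 2, i = 0 ∨ i = 1 := by decide
  rcases h01 (pol q x v) with e | e
  · rw [tr_zero e, tr_zero e]
  · have e' : pol q (x * v) v = 1 := by rw [hQ.add x hx v hv v hv, hQ.pol_self hv, e, add_zero]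
    rw [tr_one e, tr_one e', mul_assoc, hQ.sq v hv, mul_one]

theorem tr_conj {a b x : G} (ha : a ∈ A) (hb : b ∈ A) (hx : x ∈ A) :
    tr q a (tr q b x) = tr q (tr q a b) (tr q a x) := by
  show tr q a (x * sel (pol q x b) b) = _
  rw [hQ.tr_mul ha hx (sel_mem hb (pol q x b))]
  show tr q a x * tr q a (sel (pol q x b) b) = tr q a x * sel (pol q (tr q a x) (tr q a b)) (tr q a b)
  rw [hQ.pol_tr ha hx hb]
  have h01 : ∀ i : ZMod 2, i = 0 ∨ i = 1 := by decide
  rcases h01 (pol q x b) with e | e <;> rw [e]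
  · rw [sel_zero, sel_zero, tr_zero (v := a) (x := 1) (hQ.pol_one ha)]
  · rw [sel_one, sel_one]

theorem tr_comm {a b x : G} (ha : a ∈ A) (hb : b ∈ A) (hx : x ∈ A) (h : pol q a b = 0) :
    tr q a (tr q b x) = tr q b (tr q a x) := by
  rw [hQ.tr_conj ha hb hx, tr_zero (v := a) (x := b) (by rw [hQ.pol_comm hb ha]; exact h)]

theorem tr_equiv {g v x : G} (hg : g ∈ normalizer (A : Set G)) (hv : v ∈ A) (hx : x ∈ A) :
    g * tr q v x * g⁻¹ = tr q (g * v * g⁻¹) (g * x * g⁻¹) := by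
  have e : ∀ i, g * sel i v * g⁻¹ = sel i (g * v * g⁻¹) := by
    intro i; unfold sel; split_ifs <;> simp
  unfold tr
  rw [hQ.pol_inv hg hx hv, ← e]
  group

/-- A vector orthogonal to a subgroup and not in it has a partner orthogonal to two planes. -/
theorem exists_partner [Finite G] {v w : G} (hv : v ∈ A) (hw : w ∈ A) (hvw : pol q v w = 1)
    {a d : G} (ha : a ∈ A) (hd : d ∈ A) (had : pol q a d = 1)
    (hva : pol q v a = 0) (hvd : pol q v d = 0) (hwa : pol q w a = 0) (hwd : pol q w d = 0)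
    {y : G} (hy : y ∈ A) (hy1 : y ≠ 1) (hyv : pol q y v = 0) (hyw : pol q y w = 0)
    (hya : pol q y a = 0) (hyd : pol q y d = 0) :
    ∃ z ∈ A, pol q z v = 0 ∧ pol q z w = 0 ∧ pol q z a = 0 ∧ pol q z d = 0 ∧ pol q y z = 1 := by
  obtain ⟨z, hz, hyz⟩ := hQ.nondeg y hy hy1
  have h01 : ∀ i : ZMod 2, i = 0 ∨ i = 1 := by decide
  replace hyz : pol q y z = 1 := (h01 _).resolve_left hyz
  let z' := z * sel (pol q z w) v * sel (pol q z v) w * sel (pol q z d) a * sel (pol q z a) d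
  have m1 := mul_mem hz (sel_mem hv (pol q z w))
  have m2 := mul_mem m1 (sel_mem hw (pol q z v))
  have m3 := mul_mem m2 (sel_mem ha (pol q z d))
  have m4 : z' ∈ A := mul_mem m3 (sel_mem hd (pol q z a))
  have hpol : ∀ x ∈ A, pol q z' x = pol q z x + pol q z w * pol q v x + pol q z v * pol q w x +
      pol q z d * pol q a x + pol q z a * pol q d x := fun x hx => by
    rw [hQ.add _ m3 _ (sel_mem hd _) x hx, hQ.add _ m2 _ (sel_mem ha _) x hx,
      hQ.add _ m1 _ (sel_mem hw _) x hx, hQ.add _ hz _ (sel_mem hv _) x hx,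
      hQ.pol_sel_left hv hx, hQ.pol_sel_left hw hx, hQ.pol_sel_left ha hx, hQ.pol_sel_left hd hx]
  refine ⟨z', m4, ?_, ?_, ?_, ?_, ?_⟩
  · rw [hpol v hv, hQ.pol_self hv, hQ.pol_comm hw hv, hvw, hQ.pol_comm ha hv, hva, hQ.pol_comm hd hv, hvd]
    simp [CharTwo.add_self_eq_zero]
  · rw [hpol w hw, hQ.pol_self hw, hvw, hQ.pol_comm ha hw, hwa, hQ.pol_comm hd hw, hwd]
    simp [CharTwo.add_self_eq_zero]
  · rw [hpol a ha, hQ.pol_self ha, hva, hwa, hQ.pol_comm hd ha, had]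
    simp [CharTwo.add_self_eq_zero]
  · rw [hpol d hd, hQ.pol_self hd, hvd, hwd, had]
    simp [CharTwo.add_self_eq_zero]
  · rw [hQ.pol_comm hy m4, hpol y hy, hQ.pol_comm hz hy, hyz, hQ.pol_comm hv hy, hyv,
      hQ.pol_comm hw hy, hyw, hQ.pol_comm ha hy, hya, hQ.pol_comm hd hy, hyd]
    simp

theorem exists_ne_one_perp [Finite G] {v w a d : G} (hv : v ∈ A) (hw : w ∈ A) (ha : a ∈ A) (hd : d ∈ A)
    (h : 16 < Nat.card A) :
    ∃ y ∈ A, y ≠ 1 ∧ pol q y v = 0 ∧ pol q y w = 0 ∧ pol q y a = 0 ∧ pol q y d = 0 := by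
  let S1 := hQ.adj ⊥ bot_le v hv
  have h1 : S1 ≤ A := hQ.adj_le bot_le hv
  let S2 := hQ.adj S1 h1 w hw
  have h2 : S2 ≤ A := hQ.adj_le h1 hw
  let S3 := hQ.adj S2 h2 a ha
  have h3 : S3 ≤ A := hQ.adj_le h2 ha
  let S := hQ.adj S3 h3 d hd
  have h4 : S ≤ A := hQ.adj_le h3 hd
  have c1 : Nat.card S1 ≤ 2 := (hQ.card_adj bot_le hv).trans (by simp)
  have c2 : Nat.card S2 ≤ 2 * Nat.card S1 := hQ.card_adj h1 hw
  have c3 : Nat.card S3 ≤ 2 * Nat.card S2 := hQ.card_adj h2 ha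
  have c4 : Nat.card S ≤ 2 * Nat.card S3 := hQ.card_adj h3 hd
  have c5 := hQ.card_perp h4
  have hne : hQ.perp S h4 ≠ ⊥ := by
    intro e
    rw [e, Subgroup.card_bot, mul_one] at c5
    omega
  obtain ⟨⟨y, hy⟩, hy1⟩ := (Subgroup.ne_bot_iff_exists_ne_one.mp hne)
  exact ⟨y, hy.1, fun e => hy1 (Subtype.ext e),
    hy.2 v (hQ.le_adj h3 hd (hQ.le_adj h2 ha (hQ.le_adj h1 hw (hQ.mem_adj bot_le hv)))),
    hy.2 w (hQ.le_adj h3 hd (hQ.le_adj h2 ha (hQ.mem_adj h1 hw))),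
    hy.2 a (hQ.le_adj h3 hd (hQ.mem_adj h2 ha)), hy.2 d (hQ.mem_adj h3 hd)⟩

/-- A pair orthogonal to a plane. -/
theorem exists_pair_perp [Finite G] {v w : G} (hv : v ∈ A) (hw : w ∈ A) (hvw : pol q v w = 1)
    (h : 16 ≤ Nat.card A) :
    ∃ y ∈ A, ∃ z ∈ A, pol q y v = 0 ∧ pol q y w = 0 ∧ pol q z v = 0 ∧ pol q z w = 0 ∧ pol q y z = 1 := by
  let S1 := hQ.adj ⊥ bot_le v hv
  have h1 : S1 ≤ A := hQ.adj_le bot_le hv
  let S := hQ.adj S1 h1 w hw
  have h2 : S ≤ A := hQ.adj_le h1 hw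
  have c1 : Nat.card S1 ≤ 2 := (hQ.card_adj bot_le hv).trans (by simp)
  have c2 : Nat.card S ≤ 2 * Nat.card S1 := hQ.card_adj h1 hw
  have hvS : v ∈ S := hQ.le_adj h1 hw (hQ.mem_adj bot_le hv)
  have hwS : w ∈ S := hQ.mem_adj h1 hw
  obtain ⟨y, hy, z, hz, hyz⟩ := hQ.exists_pair h2 (Or.inr ⟨by
    have := Nat.pow_le_pow_left (show Nat.card S ≤ 4 by omega) 2
    omega, v, hvS, w, hwS, by rw [hvw]; exact one_ne_zero⟩)
  exact ⟨y, hy.1, z, hz.1, hy.2 v hvS, hy.2 w hwS, hz.2 v hvS, hz.2 w hwS, hyz⟩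

/-- A non-singular element orthogonal to a plane. -/
theorem exists_ns_plane [Finite G] {v w : G} (hv : v ∈ A) (hw : w ∈ A) (hvw : pol q v w = 1)
    (h : 16 ≤ Nat.card A) : ∃ a ∈ A, q a = 1 ∧ pol q a v = 0 ∧ pol q a w = 0 := by
  obtain ⟨y, hy, z, hz, yv, yw, zv, zw, hyz⟩ := hQ.exists_pair_perp hv hw hvw h
  have h01 : ∀ i : ZMod 2, i = 0 ∨ i = 1 := by decide
  rcases h01 (q y) with ey | ey
  · rcases h01 (q z) with ez | ez
    · exact ⟨y * z, mul_mem hy hz, by rw [hQ.q_mul hy hz, ey, ez, hyz]; rfl,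
        by rw [hQ.add y hy z hz v hv, yv, zv, add_zero],
        by rw [hQ.add y hy z hz w hw, yw, zw, add_zero]⟩
    · exact ⟨z, hz, ez, zv, zw⟩
  · exact ⟨y, hy, ey, yv, yw⟩

/-- A non-singular element orthogonal to two planes. -/
theorem exists_ns_perp [Finite G] {v w a d : G} (hv : v ∈ A) (hw : w ∈ A) (hvw : pol q v w = 1)
    (ha : a ∈ A) (hd : d ∈ A) (had : pol q a d = 1)
    (hva : pol q v a = 0) (hvd : pol q v d = 0) (hwa : pol q w a = 0) (hwd : pol q w d = 0)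
    (h : 16 < Nat.card A) :
    ∃ c ∈ A, q c = 1 ∧ pol q c v = 0 ∧ pol q c w = 0 ∧ pol q c a = 0 ∧ pol q c d = 0 := by
  obtain ⟨y, hy, hy1, yv, yw, ya, yd⟩ := hQ.exists_ne_one_perp hv hw ha hd h
  obtain ⟨z, hz, zv, zw, za, zd, hyz⟩ := hQ.exists_partner hv hw hvw ha hd had hva hvd hwa hwd hy hy1 yv yw ya yd
  have h01 : ∀ i : ZMod 2, i = 0 ∨ i = 1 := by decide
  rcases h01 (q y) with e | e
  · rcases h01 (q z) with e' | e'
    · refine ⟨y * z, mul_mem hy hz, ?_, ?_, ?_, ?_, ?_⟩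
      · rw [hQ.q_mul hy hz, e, e', hyz]; rfl
      all_goals (rw [hQ.add y hy z hz _ ‹_›]; simp [*])
    · exact ⟨z, hz, e', zv, zw, za, zd⟩
  · exact ⟨y, hy, e, yv, yw, ya, yd⟩

theorem not_two_planes (h4 : NoSingularFour A q) {v w a d : G} (hv : v ∈ A) (hw : w ∈ A)
    (hvw : pol q v w = 1) (ha : a ∈ A) (hd : d ∈ A) (had : pol q a d = 1)
    (hva : pol q v a = 0) (hvd : pol q v d = 0) (hwa : pol q w a = 0) (hwd : pol q w d = 0)
    (hqv : q v = 1) (hqw : q w = 1) (hqa : q a = 1) (hqd : q d = 1) : False := by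
  have hav : pol q a v = 0 := by rw [hQ.pol_comm ha hv]; exact hva
  have haw : pol q a w = 0 := by rw [hQ.pol_comm ha hw]; exact hwa
  have hdv : pol q d v = 0 := by rw [hQ.pol_comm hd hv]; exact hvd
  have h := h4 (v * a) (mul_mem hv ha) (w * d) (mul_mem hw hd)
    (by rw [hQ.q_mul hv ha, hqv, hqa, hva]; rfl) (by rw [hQ.q_mul hw hd, hqw, hqd, hwd]; rfl)
    (by rw [hQ.add v hv a ha _ (mul_mem hw hd), hQ.add_right hv hw hd, hQ.add_right ha hw hd,
      hvw, hvd, haw, had]; rfl)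
  have e : pol q (v * a) w = 1 := by rw [hQ.add v hv a ha w hw, hvw, haw, add_zero]
  rcases h with h | h | h
  · rw [h, hQ.pol_one hw] at e; exact zero_ne_one e
  · have : pol q (w * d) v = 1 := by rw [hQ.add w hw d hd v hv, hQ.pol_comm hw hv, hvw, hdv, add_zero]
    rw [h, hQ.pol_one hv] at this; exact zero_ne_one this
  · rw [h, hQ.add w hw d hd w hw, hQ.pol_self hw, hQ.pol_comm hd hw, hwd] at e
    simp at e

theorem exists_sing_perp_plane [Finite G] (hsz : 16 < Nat.card A ∨ (Nat.card A = 16 ∧ NoSingularFour A q))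
    {v w : G} (hv : v ∈ A) (hw : w ∈ A) (hvw : pol q v w = 1) (hqv : q v = 1) (hqw : q w = 1) :
    ∃ s ∈ A, s ≠ 1 ∧ q s = 0 ∧ pol q s v = 0 ∧ pol q s w = 0 := by
  obtain ⟨y, hy, z, hz, yv, yw, zv, zw, hyz⟩ := hQ.exists_pair_perp hv hw hvw (by omega)
  have h01 : ∀ i : ZMod 2, i = 0 ∨ i = 1 := by decide
  have hy1 : y ≠ 1 := fun e => by rw [e, hQ.pol_one hz] at hyz; exact zero_ne_one hyz
  have hz1 : z ≠ 1 := fun e => by
    rw [e, hQ.pol_comm hy A.one_mem, hQ.pol_one hy] at hyz; exact zero_ne_one hyz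
  rcases h01 (q y) with ey | ey
  · exact ⟨y, hy, hy1, ey, yv, yw⟩
  rcases h01 (q z) with ez | ez
  · exact ⟨z, hz, hz1, ez, zv, zw⟩
  have hp : ∀ {x}, x ∈ A → ∀ {x'}, x' ∈ A → pol q x' x = 0 → pol q x x' = 0 := fun hx _ hx' e => by
    rw [hQ.pol_comm hx hx']; exact e
  rcases hsz with h | ⟨-, h4⟩
  · obtain ⟨c, hc, hqc, cv, cw, cy, cz⟩ := hQ.exists_ns_perp hv hw hvw hy hz hyz (hp hv hy yv)
      (hp hv hz zv) (hp hw hy yw) (hp hw hz zw) h
    refine ⟨c * y, mul_mem hc hy, ?_, by rw [hQ.q_mul hc hy, hqc, ey, cy]; rfl,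
      by rw [hQ.add c hc y hy v hv, cv, yv, add_zero], by rw [hQ.add c hc y hy w hw, cw, yw, add_zero]⟩
    intro e
    have := congrArg (fun x => pol q x z) e
    simp only [hQ.add c hc y hy z hz, cz, hyz, hQ.pol_one hz, zero_add] at this
    exact (one_ne_zero : (1 : ZMod 2) ≠ 0) this
  · exact (hQ.not_two_planes h4 hv hw hvw hy hz hyz (hp hv hy yv) (hp hv hz zv) (hp hw hy yw)
      (hp hw hz zw) hqv hqw ey ez).elim

section Move

variable [Finite G] (hsz : 16 < Nat.card A ∨ (Nat.card A = 16 ∧ NoSingularFour A q))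
  (hfull : FullPairs A q) (hN : normalizer (A : Set G) = ⊤)
  {M : Subgroup G} [M.Normal]
include hsz hfull hN

omit hsz in
theorem commutator_act {g : G} (hg : g ∈ M) {v w : G} (hv : v ∈ A) (hw : w ∈ A) (hqv : q v = 1) (hqw : q w = 1) :
    ∃ h ∈ M, ∀ x ∈ A, h * x * h⁻¹ = tr q v (tr q w (tr q (g * w * g⁻¹) (tr q (g * v * g⁻¹) x))) := by
  obtain ⟨n, hn, hact⟩ := hfull v hv w hw hqv hqw
  refine ⟨n * g * n⁻¹ * g⁻¹, mul_mem (‹M.Normal›.conj_mem g hg n) (inv_mem hg), fun x hx => ?_⟩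
  have hg' : g ∈ normalizer (A : Set G) := hN ▸ mem_top g
  have hgx : g⁻¹ * x * g ∈ A := by simpa using (mem_normalizer_iff.mp (inv_mem hg') x).mp hx
  set y := g⁻¹ * x * g with hy
  have hinv : n⁻¹ * y * n = tr q w (tr q v y) := by
    have e := hact _ (hQ.tr_mem hw (hQ.tr_mem hv hgx))
    rw [hQ.tr_tr hw (hQ.tr_mem hv hgx), hQ.tr_tr hv hgx] at e
    conv_lhs => rw [← e]
    group
  have e : n * g * n⁻¹ * g⁻¹ * x * (n * g * n⁻¹ * g⁻¹)⁻¹ = n * (g * (n⁻¹ * y * n) * g⁻¹) * n⁻¹ := by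
    rw [hy]; group
  have hgA : ∀ {x}, x ∈ A → g * x * g⁻¹ ∈ A := fun h => (mem_normalizer_iff.mp hg' _).mp h
  rw [e, hinv, hact _ (hgA (hQ.tr_mem hw (hQ.tr_mem hv hgx))), hQ.tr_equiv hg' hw (hQ.tr_mem hv hgx),
    hQ.tr_equiv hg' hv hgx, show g * y * g⁻¹ = x by rw [hy]; group]

theorem good_of_two {h : G} (hh : h ∈ M) {v u : G} (hv : v ∈ A) (hu : u ∈ A) (hvu : v ≠ u)
    (hqv : q v = 1) (hqu : q u = 1) (hact : ∀ x ∈ A, h * x * h⁻¹ = tr q v (tr q u x)) : GoodMove A q M := by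
  have base : ∀ {h : G}, h ∈ M → ∀ {a x : G}, a ∈ A → x ∈ A → q a = 1 → q x = 1 → pol q a x = 1 →
      (∀ y ∈ A, h * y * h⁻¹ = tr q a (tr q x y)) → GoodMove A q M := by
    intro h hh a x ha hx hqa hqx hax hact
    obtain ⟨s, hs, hs1, hqs, hsa, hsx⟩ := hQ.exists_sing_perp_plane hsz ha hx hax hqa hqx
    refine ⟨h, hh, s, hs, hs1, hqs, by rw [hact s hs, tr_zero hsx, tr_zero hsa], a, ha,
      by rw [hQ.pol_comm ha hs]; exact hsa, ?_⟩
    have e : h * a * h⁻¹ = x := by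
      rw [hact a ha, tr_one hax, tr_one (by rw [hQ.add a ha x hx a ha, hQ.pol_self ha, hQ.pol_comm hx ha, hax, zero_add]),
        hQ.comm ha hx, mul_assoc, hQ.sq a ha, mul_one]
    rw [e, hQ.pol_comm hx ha, hax]
  have h01 : ∀ i : ZMod 2, i = 0 ∨ i = 1 := by decide
  rcases h01 (pol q v u) with e | e
  swap
  · exact base hh hv hu hqv hqu e hact
  let S := hQ.adj ⊥ bot_le v hv
  have hS : S ≤ A := hQ.adj_le bot_le hv
  have huS : u ∉ S := by
    rintro (h | h)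
    · exact hQ.ne_one hqu (Subgroup.mem_bot.mp h)
    · exact hvu ((eq_inv_of_mul_eq_one_left (Subgroup.mem_bot.mp h)).trans
        (inv_eq_of_mul_eq_one_right (hQ.sq u hu)))
  obtain ⟨y, hy, hyu⟩ := hQ.exists_sep hS hu huS
  have hyv := hy.2 v (hQ.mem_adj bot_le hv)
  obtain ⟨x, hx, hqx, hxv, hxu⟩ : ∃ x ∈ A, q x = 1 ∧ pol q x v = 0 ∧ pol q x u = 1 := by
    rcases h01 (q y) with ey | ey
    · exact ⟨y * v, mul_mem hy.1 hv, by rw [hQ.q_mul hy.1 hv, ey, hqv, hyv]; rfl,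
        by rw [hQ.add y hy.1 v hv v hv, hyv, hQ.pol_self hv, add_zero],
        by rw [hQ.add y hy.1 v hv u hu, hyu, e, add_zero]⟩
    · exact ⟨y, hy.1, ey, hyv, hyu⟩
  obtain ⟨n, hn, hn'⟩ := hfull v hv x hx hqv hqx
  have hux : pol q u x = 1 := by rw [hQ.pol_comm hu hx]; exact hxu
  have huv : pol q u v = 0 := by rw [hQ.pol_comm hu hv]; exact e
  have hnv : n * v * n⁻¹ = v := by
    rw [hn' v hv, tr_zero (v := x) (x := v) (by rw [hQ.pol_comm hv hx]; exact hxv), tr_zero (hQ.pol_self hv)]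
  have hnu : n * u * n⁻¹ = u * x := by
    rw [hn' u hu, tr_one hux, tr_zero (by rw [hQ.add u hu x hx v hv, huv, hxv, add_zero])]
  have hm := mul_mem hh (‹M.Normal›.conj_mem h hh n)
  refine base hm hu (mul_mem hu hx) hqu
    (by rw [hQ.q_mul hu hx, hqu, hqx, hux]; rfl)
    (by rw [hQ.add_right hu hu hx, hQ.pol_self hu, hux, zero_add]) fun z hz => ?_
  have hconj : n * h * n⁻¹ * z * (n * h * n⁻¹)⁻¹ = tr q v (tr q (u * x) z) := by
    have hn0 : n ∈ normalizer (A : Set G) := hn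
    have hz' : n⁻¹ * z * n ∈ A := by simpa using (mem_normalizer_iff.mp (inv_mem hn0) z).mp hz
    rw [show n * h * n⁻¹ * z * (n * h * n⁻¹)⁻¹ = n * (h * (n⁻¹ * z * n) * h⁻¹) * n⁻¹ by group,
      hact _ hz', hQ.tr_equiv hn0 hv (hQ.tr_mem hu hz'), hQ.tr_equiv hn0 hu hz', hnv, hnu,
      show n * (n⁻¹ * z * n) * n⁻¹ = z by group]
  have hz2 := hQ.tr_mem (mul_mem hu hx) hz
  rw [show h * (n * h * n⁻¹) * z * (h * (n * h * n⁻¹))⁻¹ = h * (n * h * n⁻¹ * z * (n * h * n⁻¹)⁻¹) * h⁻¹ by group,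
    hconj, hact _ (hQ.tr_mem hv hz2), hQ.tr_comm hu hv hz2 huv, hQ.tr_tr hv (hQ.tr_mem hu hz2)]

theorem good_of_fixed {g : G} (hg : g ∈ M) {c v : G} (hc : c ∈ A) (hqc : q c = 1)
    (hgc : g * c * g⁻¹ = c) (hv : v ∈ A) (hgv : g * v * g⁻¹ ≠ v) : GoodMove A q M := by
  have hg' : g ∈ normalizer (A : Set G) := hN ▸ mem_top g
  have hgA : ∀ {x}, x ∈ A → g * x * g⁻¹ ∈ A := fun h => (mem_normalizer_iff.mp hg' _).mp h
  obtain ⟨v, hv, hqv, hgv⟩ : ∃ v ∈ A, q v = 1 ∧ g * v * g⁻¹ ≠ v := by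
    by_contra! h
    refine hgv ?_
    have h01 : ∀ i : ZMod 2, i = 0 ∨ i = 1 := by decide
    rcases h01 (q v) with e | e
    swap
    · exact h v hv e
    rcases h01 (pol q v c) with e' | e'
    · have := h _ (mul_mem hv hc) (by rw [hQ.q_mul hv hc, e, hqc, e']; rfl)
      rw [show g * (v * c) * g⁻¹ = g * v * g⁻¹ * (g * c * g⁻¹) by group, hgc] at this
      exact mul_right_cancel this
    · -- a second vector
      have hv1 : v ≠ 1 := fun e1 => by rw [e1, hQ.pol_one hc] at e'; exact zero_ne_one e'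
      have hns : ∀ w ∈ A, pol q w c = 0 → g * w * g⁻¹ = w := by
        intro w hw hwc
        rcases h01 (q w) with ew | ew
        · have := h _ (mul_mem hw hc) (by rw [hQ.q_mul hw hc, ew, hqc, hwc]; rfl)
          rw [show g * (w * c) * g⁻¹ = g * w * g⁻¹ * (g * c * g⁻¹) by group, hgc] at this
          exact mul_right_cancel this
        · exact h w hw ew
      obtain ⟨w, hw, hqw, hwv, hwc⟩ := hQ.exists_ns_plane hv hc e' (by omega)
      have k := h _ (mul_mem hv hw) (by rw [hQ.q_mul hv hw, e, hqw, hQ.pol_comm hv hw, hwv]; rfl)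
      rw [show g * (v * w) * g⁻¹ = g * v * g⁻¹ * (g * w * g⁻¹) by group, hns w hw hwc] at k
      exact mul_right_cancel k
  obtain ⟨h, hh, hact⟩ := hQ.commutator_act hfull hN hg hv hc hqv hqc
  refine hQ.good_of_two hsz hfull hN hh hv (hgA hv) (fun e => hgv e.symm) hqv
    (by rw [hQ.inv g hg' v hv]; exact hqv) fun x hx => ?_
  rw [hact x hx, hgc, hQ.tr_tr hc (hQ.tr_mem (hgA hv) hx)]

/-- A normal subgroup not centralising `A` contains a good element. -/
theorem exists_goodMove {g : G} (hg : g ∈ M) {x : G} (hx : x ∈ A) (hgx : g * x * g⁻¹ ≠ x) :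
    GoodMove A q M := by
  have h01 : ∀ i : ZMod 2, i = 0 ∨ i = 1 := by decide
  have hg' : g ∈ normalizer (A : Set G) := hN ▸ mem_top g
  by_contra hgood
  let φ : G → G := fun y => g * y * g⁻¹
  have hφA : ∀ {y}, y ∈ A → φ y ∈ A := fun h => (mem_normalizer_iff.mp hg' _).mp h
  have hφq : ∀ {y}, y ∈ A → q (φ y) = q y := fun h => hQ.inv g hg' _ h
  have hφp : ∀ {y z}, y ∈ A → z ∈ A → pol q (φ y) (φ z) = pol q y z := fun hy hz => hQ.pol_inv hg' hy hz
  have hfix : ∀ c ∈ A, q c = 1 → φ c ≠ c := fun c hc hqc h =>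
    hgood (hQ.good_of_fixed hsz hfull hN hg hc hqc h hx hgx)
  have hfix' : ∀ {h : G}, h ∈ M → ∀ {c v : G}, c ∈ A → q c = 1 → h * c * h⁻¹ = c → v ∈ A →
      h * v * h⁻¹ ≠ v → False := fun hh _ _ hc hqc e hv hne =>
    hgood (hQ.good_of_fixed hsz hfull hN hh hc hqc e hv hne)
  -- two orthogonal planes
  have planes : ∀ {v w a d : G}, v ∈ A → w ∈ A → pol q v w = 1 → a ∈ A → d ∈ A → pol q a d = 1 →
      pol q v a = 0 → pol q v d = 0 → pol q w a = 0 → pol q w d = 0 →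
      q v = 1 → q w = 1 → q a = 1 → q d = 1 →
      (∀ h ∈ M, (∀ c ∈ A, pol q c v = 0 → pol q c w = 0 → pol q c a = 0 → pol q c d = 0 → h * c * h⁻¹ = c) →
        h * v * h⁻¹ = v) := by
    intro v w a d hv hw hvw ha hd had hva hvd hwa hwd hqv hqw hqa hqd h hh hc
    by_contra hne
    rcases hsz with hs | ⟨-, h4⟩
    · obtain ⟨c, hcA, hqc, cv, cw, ca, cd⟩ := hQ.exists_ns_perp hv hw hvw ha hd had hva hvd hwa hwd hs
      exact hfix' hh hcA hqc (hc c hcA cv cw ca cd) hv hne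
    · exact hQ.not_two_planes h4 hv hw hvw ha hd had hva hvd hwa hwd hqv hqw hqa hqd
  obtain ⟨v, hv, hqv⟩ : ∃ v ∈ A, q v = 1 := by
    by_contra! h
    refine hgx ?_
    by_cases hx1 : x = 1
    · simp [hx1]
    · obtain ⟨c, hc, hne⟩ := hQ.nondeg x hx hx1
      exact absurd (by rw [pol, (h01 _).resolve_right (h _ (mul_mem hx hc)),
        (h01 _).resolve_right (h _ hx), (h01 _).resolve_right (h _ hc)]; rfl) hne
  by_cases hA : ∃ v ∈ A, q v = 1 ∧ pol q v (φ v) = 1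
  · obtain ⟨v, hv, hqv, he⟩ := hA
    set v' := φ v with hv'
    set v'' := φ v' with hv''
    have hv'A : v' ∈ A := hφA hv
    have hv''A : v'' ∈ A := hφA hv'A
    have he' : pol q v' v'' = 1 := by rw [hv'', hv', hφp hv (hφA hv)]; exact he
    have hu : v'' = v * v' := by
      by_contra hne
      obtain ⟨h, hh, hact⟩ := hQ.commutator_act hfull hN hg hv hv'A hqv (by rw [hv', hφq hv]; exact hqv)
      refine hgood (hQ.good_of_two hsz hfull hN hh hv (u := v'' * v') (mul_mem hv''A hv'A)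
        (fun e => hne (by rw [e, mul_assoc, hQ.sq v' hv'A, mul_one])) hqv ?_ fun y hy => ?_)
      · rw [hQ.q_mul hv''A hv'A, hv'', hφq hv'A, hQ.pol_comm (hφA hv'A) hv'A, ← hv'', he', hv',
          hφq hv, hqv]; rfl
      · rw [hact y hy]
        show tr q v (tr q v' (tr q v'' (tr q v' y))) = _
        rw [hQ.tr_conj hv'A hv''A (hQ.tr_mem hv'A hy), hQ.tr_tr hv'A hy,
          tr_one (show pol q v'' v' = 1 by rw [hQ.pol_comm hv''A hv'A]; exact he')]
    obtain ⟨a, ha, hqa, av, av'⟩ := hQ.exists_ns_plane hv hv'A he (by omega)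
    set a' := φ a with ha'
    have ha'A : a' ∈ A := hφA ha
    have a'v' : pol q a' v' = 0 := by rw [ha', hv', hφp ha hv]; exact av
    have a'v : pol q a' v = 0 := by
      have e : pol q a' v'' = 0 := by rw [ha', hv'', hφp ha hv'A]; exact av'
      rw [hu, hQ.add_right ha'A hv hv'A, a'v', add_zero] at e
      exact e
    have sym : ∀ {s t}, s ∈ A → t ∈ A → pol q s t = 0 → pol q t s = 0 := fun hs ht e => by
      rw [hQ.pol_comm ht hs]; exact e
    rcases h01 (pol q a a') with ea | ea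
    · obtain ⟨h, hh, hact⟩ := hQ.commutator_act hfull hN hg ha ha'A hqa (by rw [ha', hφq ha]; exact hqa)
      by_cases haa : φ a' = a
      · have e1 : a * a' ≠ 1 := fun e => hfix a ha hqa (by
          show a' = a
          rw [eq_inv_of_mul_eq_one_right e, inv_eq_of_mul_eq_one_right (hQ.sq a ha)])
        refine hgood ⟨g, hg, a * a', mul_mem ha ha'A, e1, ?_, ?_, v, hv, ?_, ?_⟩
        · rw [hQ.q_mul ha ha'A, ha', hφq ha, hqa, ← ha', ea]; rfl
        · rw [show g * (a * a') * g⁻¹ = φ a * φ a' by simp only [φ]; group, haa, ← ha', hQ.comm ha'A ha]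
        · rw [hQ.add_right hv ha ha'A, sym ha hv av, sym ha'A hv a'v, add_zero]
        · show pol q v' v = 1
          rw [hQ.pol_comm hv'A hv]; exact he
      · have ha''A : φ a' ∈ A := hφA ha'A
        refine hgood (hQ.good_of_two hsz hfull hN hh ha ha''A (Ne.symm haa) hqa
          (by rw [hφq ha'A, ha', hφq ha]; exact hqa) fun y hy => ?_)
        rw [hact y hy]
        show tr q a (tr q a' (tr q (φ a') (tr q a' y))) = _
        rw [hQ.tr_comm ha'A ha''A (hQ.tr_mem ha'A hy) (by rw [ha', hφp ha (hφA ha), ← ha']; exact ea),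
          hQ.tr_tr ha'A hy]
    · obtain ⟨h, hh, hact⟩ := hQ.commutator_act hfull hN hg hv ha hqv hqa
      have hqa' : q a' = 1 := by rw [ha', hφq ha]; exact hqa
      have hqv' : q v' = 1 := by rw [hv', hφq hv]; exact hqv
      have := planes hv hv'A he ha ha'A ea (sym ha hv av) (sym ha'A hv a'v) (sym ha hv'A av')
        (sym ha'A hv'A a'v') hqv hqv' hqa hqa' h hh (fun c hc cv cv' ca ca' => by
          rw [hact c hc, tr_zero cv', tr_zero ca', tr_zero ca, tr_zero cv])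
      rw [hact v hv] at this
      rw [tr_one he, tr_zero (show pol q (v * v') a' = 0 by
          rw [hQ.add v hv v' hv'A a' ha'A, sym ha'A hv a'v, sym ha'A hv'A a'v', add_zero]),
        tr_zero (show pol q (v * v') a = 0 by
          rw [hQ.add v hv v' hv'A a ha, sym ha hv av, sym ha hv'A av', add_zero]),
        tr_one (show pol q (v * v') v = 1 by
          rw [hQ.add v hv v' hv'A v hv, hQ.pol_self hv, hQ.pol_comm hv'A hv, he, zero_add]),
        hQ.comm hv hv'A, mul_assoc, hQ.sq v hv, mul_one] at this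
      exact hfix v hv hqv this
  · push Not at hA
    have he : ∀ c ∈ A, q c = 1 → pol q c (φ c) = 0 := fun c hc hqc => (h01 _).resolve_right (hA c hc hqc)
    set v' := φ v with hv'
    have hv'A : v' ∈ A := hφA hv
    have hqv' : q v' = 1 := by rw [hv', hφq hv]; exact hqv
    have hinv : φ v' = v := by
      by_contra hne
      obtain ⟨h, hh, hact⟩ := hQ.commutator_act hfull hN hg hv hv'A hqv hqv'
      have hv''A : φ v' ∈ A := hφA hv'A
      refine hgood (hQ.good_of_two hsz hfull hN hh hv hv''A (Ne.symm hne) hqv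
        (by rw [hφq hv'A]; exact hqv') fun y hy => ?_)
      rw [hact y hy]
      show tr q v (tr q v' (tr q (φ v') (tr q v' y))) = _
      rw [hQ.tr_comm hv'A hv''A (hQ.tr_mem hv'A hy) (he v' hv'A hqv'), hQ.tr_tr hv'A hy]
    have hvv : pol q v v' = 0 := he v hv hqv
    let S := hQ.adj ⊥ bot_le v' hv'A
    have hvS : v ∉ S := by
      rintro (h' | h')
      · exact hQ.ne_one hqv (Subgroup.mem_bot.mp h')
      · exact hfix v hv hqv ((eq_inv_of_mul_eq_one_left (Subgroup.mem_bot.mp h')).trans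
          (inv_eq_of_mul_eq_one_right (hQ.sq v hv)))
    obtain ⟨y, hy, hyv⟩ := hQ.exists_sep (hQ.adj_le bot_le hv'A) hv hvS
    have hyv' := hy.2 v' (hQ.mem_adj bot_le hv'A)
    obtain ⟨w, hw, hqw, hwv, hwv'⟩ : ∃ w ∈ A, q w = 1 ∧ pol q w v = 1 ∧ pol q w v' = 0 := by
      rcases h01 (q y) with ey | ey
      · exact ⟨y * v', mul_mem hy.1 hv'A, by rw [hQ.q_mul hy.1 hv'A, ey, hqv', hyv']; rfl,
          by rw [hQ.add y hy.1 v' hv'A v hv, hyv, hQ.pol_comm hv'A hv, hvv, add_zero],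
          by rw [hQ.add y hy.1 v' hv'A v' hv'A, hyv', hQ.pol_self hv'A, add_zero]⟩
      · exact ⟨y, hy.1, ey, hyv, hyv'⟩
    set w' := φ w with hw'
    have hw'A : w' ∈ A := hφA hw
    have hqw' : q w' = 1 := by rw [hw', hφq hw]; exact hqw
    have hww : pol q w w' = 0 := he w hw hqw
    have hw'v : pol q w' v = 0 := by rw [hw', ← hinv, hφp hw hv'A]; exact hwv'
    have hvw' : pol q v w' = 0 := by rw [hQ.pol_comm hv hw'A]; exact hw'v
    have hvw : pol q v w = 1 := by rw [hQ.pol_comm hv hw]; exact hwv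
    have hv'w' : pol q v' w' = 1 := by rw [hv', hw', hφp hv hw]; exact hvw
    obtain ⟨h, hh, hact⟩ := hQ.commutator_act hfull hN hg hv hw hqv hqw
    have := planes hv hw hvw hv'A hw'A hv'w' hvv hvw' hwv' hww hqv hqw hqv' hqw' h hh
      (fun c hc cv cw cv' cw' => by
        rw [hact c hc, tr_zero cv', tr_zero cw', tr_zero cw, tr_zero cv])
    rw [hact v hv, tr_zero hvv, tr_zero hvw', tr_one hvw,
      tr_one (show pol q (v * w) v = 1 by rw [hQ.add v hv w hw v hv, hQ.pol_self hv, hwv, zero_add]),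
      hQ.comm hv hw, mul_assoc, hQ.sq v hv, mul_one] at this
    rw [this, hQ.pol_self hv] at hwv
    exact zero_ne_one hwv

end Move

end Quad

end Cfsg.Agent.Lib.SympFusion78
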