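import Cfsg.Agent.Lib.Sym78.Full
import Cfsg.Agent.Lib.Sym78.Move

/-!
The induction step: in an overgroup of the normaliser, the centraliser of a non-central involution
normalises the group, unless the overgroup contains every transvection.
-/

set_option autoImplicit false
set_option linter.style.haveILetI false
set_option maxHeartbeats 1000000

namespace Cfsg.Agent.Lib.Sym78

open Cfsg.Agent.Lib.SympFusion78
open Subgroup

variable {F : Type*} [Field F] {V : Type*} [AddCommGroup V] [Module F V]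

/-- The conclusion for the groups induced on the fixed spaces. -/
def LowerStep (ω : LinearMap.BilinForm F V) (R : Subgroup (Module.End F V)ˣ) : Prop :=
  ∀ (s u : (Module.End F V)ˣ) (S : Split R s u (LinearMap.ker ((s : Module.End F V) - 1)).subtype)
    (H : Subgroup (Module.End F (LinearMap.ker ((s : Module.End F V) - 1) : Submodule F V))ˣ),
    normalizer (resR S : Set (Module.End F (LinearMap.ker ((s : Module.End F V) - 1) : Submodule F V))ˣ) ⊓
        spSub (resForm ω (LinearMap.ker ((s : Module.End F V) - 1)).subtype) ≤ H →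
      H ≤ spSub (resForm ω (LinearMap.ker ((s : Module.End F V) - 1)).subtype) →
      H ≤ normalizer (resR S : Set (Module.End F (LinearMap.ker ((s : Module.End F V) - 1) : Submodule F V))ˣ) ∨
      Full (resForm ω (LinearMap.ker ((s : Module.End F V) - 1)).subtype) H

namespace Ext

variable {ω : LinearMap.BilinForm F V} {k : ℕ} {R : Subgroup (Module.End F V)ˣ} (D : Ext ω k R)
include D

theorem exists_sq_neg (hk : 1 ≤ k) : ∃ r ∈ R, r * r = -1 := by
  by_contra! h
  have hsq : ∀ a ∈ R, a * a = 1 := fun a ha => (D.sq a ha).resolve_right (h a ha)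
  have hinv : ∀ a ∈ R, a⁻¹ = a := fun a ha => inv_eq_of_mul_eq_one_right (hsq a ha)
  have hc : ∀ a ∈ R, ∀ b ∈ R, a * b = b * a := fun a ha b hb => by
    have e := hinv _ (mul_mem ha hb)
    rwa [mul_inv_rev, hinv a ha, hinv b hb, eq_comm] at e
  have hR : R ≤ negs F V := fun a ha => D.center a ha (hc a ha)
  have : (R : Set (Module.End F V)ˣ).ncard ≤ 2 := by
    refine le_trans (Set.ncard_le_ncard (show (R : Set (Module.End F V)ˣ) ⊆ {1, -1} from fun a ha => hR ha)
      ((Set.finite_singleton _).insert _)) ?_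
    exact (Set.ncard_insert_le _ _).trans (by rw [Set.ncard_singleton])
  have hc' := D.card
  rw [show Nat.card R = (R : Set (Module.End F V)ˣ).ncard from rfl] at hc'
  have := Nat.pow_le_pow_right two_pos (show 2 ≤ 1 + 2 * k by omega)
  omega

theorem exists_invol [Finite V] (hk : 2 ≤ k) : ∃ b ∈ R, b * b = 1 ∧ b ≠ 1 ∧ b ≠ -1 := by
  obtain ⟨r, hr, hr2⟩ := D.exists_sq_neg (by omega)
  have hr1 : r ≠ 1 := by rintro rfl; rw [one_mul] at hr2; exact D.neg_ne_one hr2.symm
  have hrn : r ≠ -1 := by rintro rfl; rw [neg_mul_neg, one_mul] at hr2; exact D.neg_ne_one hr2.symm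
  obtain ⟨u, hu, hur⟩ := D.anti_of_ne hr hr1 hrn
  by_contra! h
  have hC : ∀ a ∈ R, a * r = r * a → a = 1 ∨ a = -1 ∨ a = r ∨ a = -r := by
    intro a ha har
    rcases D.sq a ha with e | e
    · by_cases h1 : a = 1
      · exact Or.inl h1
      · exact Or.inr (Or.inl (h a ha e h1))
    · have e' : (a * r) * (a * r) = 1 := by
        rw [show a * r * (a * r) = a * (r * a) * r by group, ← har,
          show a * (a * r) * r = (a * a) * (r * r) by group, e, hr2, neg_mul_neg, one_mul]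
      by_cases h1 : a * r = 1
      · refine Or.inr (Or.inr (Or.inr ?_))
        rw [eq_inv_of_mul_eq_one_left h1]
        exact inv_eq_of_mul_eq_one_right (by rw [mul_neg, hr2, neg_neg])
      · have h2 := h _ (mul_mem ha hr) e' h1
        refine Or.inr (Or.inr (Or.inl (mul_right_cancel (b := r) ?_)))
        rw [h2, hr2]
  classical
  let T : Finset (Module.End F V)ˣ := {1, -1, r, -r, 1 * u⁻¹, -1 * u⁻¹, r * u⁻¹, -r * u⁻¹}
  have hsub : (R : Set (Module.End F V)ˣ) ⊆ (T : Set (Module.End F V)ˣ) := by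
    intro a ha
    rcases D.comm a ha r hr with e | e
    · simp only [T, Finset.coe_insert, Finset.coe_singleton, Set.mem_insert_iff, Set.mem_singleton_iff]
      rcases hC a ha e with h | h | h | h <;> simp [h]
    · have e' : a * u * r = r * (a * u) := by
        rw [mul_assoc, hur, mul_neg, ← mul_assoc, e, neg_mul, neg_neg, mul_assoc]
      simp only [T, Finset.coe_insert, Finset.coe_singleton, Set.mem_insert_iff, Set.mem_singleton_iff]
      rcases hC _ (mul_mem ha hu) e' with h | h | h | h <;>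
        rw [show a = a * u * u⁻¹ by group, h] <;> simp
  have h1 := Set.ncard_le_ncard hsub (T.finite_toSet)
  rw [Set.ncard_coe_finset] at h1
  have h2 : T.card ≤ 8 := by
    refine le_trans (Finset.card_insert_le _ _) (Nat.succ_le_succ ?_)
    repeat refine le_trans (Finset.card_insert_le _ _) (Nat.succ_le_succ ?_)
    exact le_of_eq (Finset.card_singleton _)
  have hc := D.card
  rw [show Nat.card R = (R : Set (Module.End F V)ˣ).ncard from rfl] at hc
  have := Nat.pow_le_pow_right two_pos (show 5 ≤ 1 + 2 * k by omega)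
  omega

/-- The action of `1 + r` on the quotient. -/
theorem tau_act {H : Subgroup (Module.End F V)ˣ} (hH : R ≤ H) {r : (Module.End F V)ˣ} (hr : r ∈ R)
    (hr2 : r * r = -1) {a : (Module.End F V)ˣ} (ha : a ∈ R) :
    tau D.two_ne r hr2 * a * (tau D.two_ne r hr2)⁻¹ ∈ R ∧
      ∀ (h : tau D.two_ne r hr2 * a * (tau D.two_ne r hr2)⁻¹ ∈ H),
        proj H ⟨_, h⟩ = tr (qbar R H) (proj H ⟨r, hH hr⟩) (proj H ⟨a, hH ha⟩) := by
  rcases D.comm r hr a ha with e | e
  · rw [tau_conj_of_comm D.two_ne hr2 e]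
    refine ⟨ha, fun h => ?_⟩
    rw [tr, D.pol_proj hH (show ((⟨a, hH ha⟩ : H) : (Module.End F V)ˣ) ∈ R from ha) (show ((⟨r, hH hr⟩ : H) : (Module.End F V)ˣ) ∈ R from hr),
      bR_zero_iff.mpr e.symm, sel_zero, mul_one]
  · rw [tau_conj_of_anti D.two_ne hr2 e]
    refine ⟨mul_mem hr ha, fun h => ?_⟩
    rw [tr, D.pol_proj hH (show ((⟨a, hH ha⟩ : H) : (Module.End F V)ˣ) ∈ R from ha) (show ((⟨r, hH hr⟩ : H) : (Module.End F V)ˣ) ∈ R from hr),
      (D.bR_one_iff ha hr).mpr (by rw [e, neg_neg]), sel_one, ← map_mul, proj_eq_iff]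
    right
    show a * r = -(r * a)
    rw [e, neg_neg]

theorem fullPairs [Finite V] {H : Subgroup (Module.End F V)ˣ}
    (hN : normalizer (R : Set (Module.End F V)ˣ) ⊓ spSub ω ≤ H) :
    FullPairs (bar R H) (qbar R H) := by
  have hR := D.le_of_normalizer_le hN
  intro v hv w hw hqv hqw
  obtain ⟨⟨r, hr'⟩, hr, rfl⟩ := hv
  obtain ⟨⟨t, ht'⟩, ht, rfl⟩ := hw
  replace hr : r ∈ R := hr
  replace ht : t ∈ R := ht
  rw [D.qbar_proj hR (show ((⟨r, hr'⟩ : H) : (Module.End F V)ˣ) ∈ R from hr)] at hqv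
  rw [D.qbar_proj hR (show ((⟨t, ht'⟩ : H) : (Module.End F V)ˣ) ∈ R from ht)] at hqw
  have hr2 := (D.qR_one_iff hr).mp hqv
  have ht2 := (D.qR_one_iff ht).mp hqw
  have hn := D.pairElem_normalizer hr ht hr2 ht2
  let n : H := ⟨pairElem D.two_ne r t hr2 ht2, hN ⟨hn, D.pairElem_mem hr ht hr2 ht2⟩⟩
  refine ⟨proj H n, (D.normalizer_iff hR).mpr hn, ?_⟩
  rintro _ ⟨⟨a, ha'⟩, ha, rfl⟩
  replace ha : a ∈ R := ha
  obtain ⟨h1, h1'⟩ := D.tau_act hR ht ht2 ha
  obtain ⟨h2, h2'⟩ := D.tau_act hR hr hr2 h1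
  rw [← h1' (hR h1), ← h2' (hR h2), ← map_inv, ← map_mul, ← map_mul]
  refine congrArg (proj H) (Subtype.ext ?_)
  show pairElem D.two_ne r t hr2 ht2 * a * (pairElem D.two_ne r t hr2 ht2)⁻¹ = _
  rw [pairElem_conj]

theorem noSingularFour [Finite V] (hk : k = 2) {H : Subgroup (Module.End F V)ˣ} (hR : R ≤ H) :
    NoSingularFour (bar R H) (qbar R H) := by
  intro _ ha' _ hb' hqa hqb hab
  obtain ⟨a, ha, rfl⟩ := ha'
  obtain ⟨b, hb, rfl⟩ := hb'
  replace ha : (a : (Module.End F V)ˣ) ∈ R := ha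
  replace hb : (b : (Module.End F V)ˣ) ∈ R := hb
  rw [D.qbar_proj hR ha, qR_zero_iff] at hqa
  rw [D.qbar_proj hR hb, qR_zero_iff] at hqb
  rw [D.pol_proj hR ha hb, bR_zero_iff] at hab
  by_contra! hne
  obtain ⟨hna, hnb, hnab⟩ := hne
  set x : (Module.End F V)ˣ := (a : (Module.End F V)ˣ) with hx
  set y : (Module.End F V)ˣ := (b : (Module.End F V)ˣ) with hy
  let T : Set (Module.End F V)ˣ := {1, x, y, x * y}
  let T' : Set (Module.End F V)ˣ := {g | g ∈ T ∨ -g ∈ T}
  let E : Subgroup (Module.End F V)ˣ := Subgroup.closure {-1, x, y}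
  have hE : E ≤ R := (closure_le _).mpr fun g hg => by
    rcases hg with rfl | rfl | rfl
    exacts [D.neg, ha, hb]
  have hS : ∀ g ∈ ({-1, x, y} : Set (Module.End F V)ˣ), ∀ h ∈ ({-1, x, y} : Set (Module.End F V)ˣ), g * h = h * g := by
    rintro g (rfl | rfl | rfl) h (rfl | rfl | rfl) <;>
      first | rfl | simp only [neg_mul, mul_neg, one_mul, mul_one] | assumption | exact hab.symm
  have hcom : ∀ g ∈ E, ∀ h ∈ E, g * h = h * g := by
    have h1 : E ≤ centralizer ({-1, x, y} : Set (Module.End F V)ˣ) :=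
      (closure_le _).mpr fun g hg => mem_centralizer_iff.mpr fun h hh => hS h hh g hg
    have h2 : E ≤ centralizer (E : Set (Module.End F V)ˣ) := (closure_le _).mpr fun g hg =>
      mem_centralizer_iff.mpr fun h hh => (mem_centralizer_iff.mp (h1 hh) g hg).symm
    exact fun g hg h hh => (mem_centralizer_iff.mp (h2 hg) h hh).symm
  have hsq : ∀ g ∈ E, g * g = 1 := by
    intro g hg
    refine closure_induction (p := fun g _ => g * g = 1) ?_ (mul_one 1) ?_ ?_ hg
    · rintro g (rfl | rfl | rfl)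
      · simp
      · exact hqa
      · exact hqb
    · intro g h hg hh e e'
      rw [show g * h * (g * h) = g * (h * g) * h by group, ← hcom g hg h hh,
        show g * (g * h) * h = (g * g) * (h * h) by group, e, e', one_mul]
    · intro g _ e
      rw [← mul_inv_rev, e, inv_one]
  have hm := D.minus E hE hcom hsq
  -- eight elements
  have hp : ∀ {g h : H}, proj H g ≠ proj H h → (g : (Module.End F V)ˣ) ≠ h ∧ (g : (Module.End F V)ˣ) ≠ -h := by
    intro g h hne
    refine ⟨fun e => hne (by rw [Subtype.ext e]), fun e => hne (proj_eq_iff.mpr (Or.inr ?_))⟩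
    rw [e, neg_neg]
  have hab' : proj H (a * b) ≠ 1 := fun e => hnab (by
    rw [map_mul] at e
    rw [eq_inv_of_mul_eq_one_left e]
    exact (D.quad hR).inv_self ((D.mem_bar hR).mpr hb))
  let f : ZMod 2 × ZMod 2 × ZMod 2 → E := fun p => ⟨sg p.1 * (((sel p.2.1 a * sel p.2.2 b : H)) : (Module.End F V)ˣ), by
    refine mul_mem ?_ ?_
    · unfold sg; split_ifs
      · exact E.one_mem
      · exact subset_closure (Or.inl rfl)
    · push_cast
      refine mul_mem ?_ ?_ <;> (unfold sel; split_ifs)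
      · exact E.one_mem
      · exact subset_closure (Or.inr (Or.inl rfl))
      · exact E.one_mem
      · exact subset_closure (Or.inr (Or.inr rfl))⟩
  have h01 : ∀ i : ZMod 2, i = 0 ∨ i = 1 := by decide
  have hf : Function.Injective f := by
    rintro ⟨i, j⟩ ⟨i', j'⟩ e
    have e' := congrArg Subtype.val e
    change sg i * _ = sg i' * _ at e'
    have hpe : proj H (sel j.1 a * sel j.2 b) = proj H (sel j'.1 a * sel j'.2 b) := by
      rw [proj_eq_iff]
      revert e'
      unfold sg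
      split_ifs <;> intro e' <;> simp only [one_mul, neg_one_mul] at e'
      · exact Or.inl e'.symm
      · right; rw [← neg_eq_iff_eq_neg]; exact e'.symm
      · right; exact e'.symm
      · exact Or.inl (neg_inj.mp e').symm
    have hjj : j = j' := by
      obtain ⟨j1, j2⟩ := j
      obtain ⟨j1', j2'⟩ := j'
      have hQ := D.quad hR
      have ma := (D.mem_bar hR).mpr ha
      have mb := (D.mem_bar hR).mpr hb
      have sa := hQ.sq _ ma
      have sb := hQ.sq _ mb
      have cab := hQ.comm ma mb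
      rcases h01 j1 with rfl | rfl <;> rcases h01 j2 with rfl | rfl <;> rcases h01 j1' with rfl | rfl <;>
        rcases h01 j2' with rfl | rfl <;>
        simp only [sel_zero, sel_one, one_mul, mul_one, map_mul, map_one] at hpe <;>
        first
          | rfl
          | exact absurd hpe hna | exact absurd hpe.symm hna
          | exact absurd hpe hnb | exact absurd hpe.symm hnb
          | exact absurd hpe hnab | exact absurd hpe.symm hnab
          | exact absurd (by rw [map_mul]; exact hpe) hab' | exact absurd (by rw [map_mul]; exact hpe.symm) hab'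
          | exact absurd (left_eq_mul.mp hpe) hnb | exact absurd (left_eq_mul.mp hpe.symm) hnb
          | exact absurd (right_eq_mul.mp hpe) hna | exact absurd (right_eq_mul.mp hpe.symm) hna
    subst hjj
    rw [D.sg_inj (mul_right_cancel e')]
  have hle := Nat.card_le_card_of_injective f hf
  simp only [Nat.card_prod, Nat.card_zmod] at hle
  subst hk
  omega

section Step

variable [Finite V] {W : Type*} [AddCommGroup W] [Module F W] {s u : (Module.End F V)ˣ} {ι : W →ₗ[F] V}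

theorem conj_Blk (S : Split R s u ι) (g g' a b : (Module.End F W)ˣ) :
    S.Blk (g, g') * S.Blk (a, b) * (S.Blk (g, g'))⁻¹ = S.Blk (g * a * g⁻¹, g' * b * g'⁻¹) := by
  rw [← map_inv, ← map_mul, ← map_mul]; rfl

theorem normalizer_of_gens (S : Split R s u ι) {x : (Module.End F V)ˣ}
    (h1 : ∀ a ∈ resR S, x * S.Blk (a, a) * x⁻¹ ∈ R) (h2 : x * s * x⁻¹ ∈ R) (h3 : x * u * x⁻¹ ∈ R) :
    x ∈ normalizer (R : Set (Module.End F V)ˣ) := by
  refine Subgroup.mem_normalizer_fintype fun r hr => ?_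
  have key : ∀ r ∈ R, r * s = s * r → x * r * x⁻¹ ∈ R := by
    intro r hr hrs
    obtain ⟨a, ha, e | e⟩ := D.exists_resR S hr hrs
    · rw [e]; exact h1 a ha
    · have e2 : S.Blk (a, -a) = S.Blk (a, a) * s := by
        rw [show S.Blk (a, a) * s = S.Blk (a, a) * S.Blk (1, -1) from (congrArg (S.Blk (a, a) * ·) S.Blk_one_neg).symm,
          ← map_mul]
        exact congrArg _ (Prod.ext (mul_one a).symm (mul_neg_one a).symm)
      rw [e, e2, show x * (S.Blk (a, a) * s) * x⁻¹ = x * S.Blk (a, a) * x⁻¹ * (x * s * x⁻¹) by group]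
      exact mul_mem (h1 a ha) h2
  rcases D.comm r hr s S.mem with e | e
  · exact key r hr e
  · have hc : r * u * s = s * (r * u) := by
      rw [mul_assoc, S.anti, mul_neg, ← mul_assoc, e, neg_mul, neg_neg, mul_assoc]
    rw [show x * r * x⁻¹ = x * (r * u) * x⁻¹ * (x * u * x⁻¹)⁻¹ by group]
    exact mul_mem (key _ (mul_mem hr S.umem) hc) (inv_mem h3)

theorem Blk_diag_mem (S : Split R s u ι) {g : (Module.End F W)ˣ}
    (hg : g ∈ normalizer (resR S : Set (Module.End F W)ˣ) ⊓ spSub (resForm ω ι)) :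
    S.Blk (g, g) ∈ normalizer (R : Set (Module.End F V)ˣ) ⊓ spSub ω := by
  refine ⟨D.normalizer_of_gens S (fun a ha => ?_) ?_ ?_, (D.Blk_mem_spSub S).mpr ⟨hg.2, hg.2⟩⟩
  · rw [D.conj_Blk S]
    exact (D.mem_resR_iff S).mp ((mem_normalizer_iff.mp hg.1 a).mp ha)
  · rw [mul_inv_eq_iff_eq_mul.mpr (S.Blk_comm (g, g))]; exact S.mem
  · have e := mul_inv_eq_iff_eq_mul.mp (S.Blk_swap g g)
    rw [mul_inv_eq_iff_eq_mul.mpr e.symm]; exact S.umem

theorem Blk_one_mem (S : Split R s u ι) {b : (Module.End F W)ˣ} (hb : b ∈ resR S) :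
    S.Blk (b, 1) ∈ normalizer (R : Set (Module.End F V)ˣ) ⊓ spSub ω := by
  have hbR := (D.mem_resR_iff S).mp hb
  refine ⟨D.normalizer_of_gens S (fun a ha => ?_) ?_ ?_,
    (D.Blk_mem_spSub S).mpr ⟨((D.Blk_mem_spSub S).mp (D.le hbR)).1, (spSub _).one_mem⟩⟩
  · rw [D.conj_Blk S, one_mul, inv_one, mul_one]
    rcases D.comm _ hbR _ ((D.mem_resR_iff S).mp ha) with e | e <;> rw [← map_mul, ← map_mul] at e
    · rw [show b * a * b⁻¹ = a from mul_inv_eq_iff_eq_mul.mpr (S.Blk_inj e).1]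
      exact (D.mem_resR_iff S).mp ha
    · have e' : b * a = -(a * b) := (S.Blk_inj (a' := -(a * b)) (c' := -(a * b)) (e.trans (S.Blk_neg _ _).symm)).1
      rw [e', neg_mul, mul_inv_cancel_right, show S.Blk (-a, a) = -S.Blk (a, -a) by
        rw [← S.Blk_neg, neg_neg]]
      exact D.neg_mem (D.Blk_neg_mem S ha)
  · rw [mul_inv_eq_iff_eq_mul.mpr (S.Blk_comm (b, 1))]; exact S.mem
  · have e := mul_inv_eq_iff_eq_mul.mp (S.Blk_swap 1 b⁻¹)
    rw [mul_assoc, show u * (S.Blk (b, 1))⁻¹ = S.Blk (1, b⁻¹) * u by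
      rw [← map_inv, show ((b, 1) : (Module.End F W)ˣ × (Module.End F W)ˣ)⁻¹ = (b⁻¹, 1) from Prod.ext rfl inv_one]
      exact mul_inv_eq_iff_eq_mul.mp (S.Blk_swap b⁻¹ 1), ← mul_assoc, ← map_mul,
      show ((b, 1) * (1, b⁻¹) : (Module.End F W)ˣ × (Module.End F W)ˣ) = (b, b⁻¹) from
        Prod.ext (mul_one b) (one_mul _)]
    refine mul_mem ?_ S.umem
    rcases D.sq _ hbR with e | e <;> rw [← map_mul] at e
    · rw [inv_eq_of_mul_eq_one_right (S.Blk_inj (e.trans (map_one S.Blk).symm)).1]; exact hbR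
    · have e' : b * b = -1 := (S.Blk_inj (a' := -1) (c' := -1) (e.trans ((congrArg Neg.neg (map_one S.Blk).symm).trans (S.Blk_neg 1 1).symm))).1
      rw [inv_eq_of_mul_eq_one_right (show b * -b = 1 by rw [mul_neg, e', neg_neg])]
      exact D.Blk_neg_mem S hb

end Step

section Dichotomy

variable [Finite V]

omit D in
/-- Full components give everything. -/
theorem full_of_full_comp {k : ℕ} {R : Subgroup (Module.End F V)ˣ} (D : Ext ω (k + 1) R) (hk : 2 ≤ k)
    {W : Type*} [AddCommGroup W] [Module F W] {s u : (Module.End F V)ˣ} {ι : W →ₗ[F] V} (S : Split R s u ι)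
    {H : Subgroup (Module.End F V)ˣ}
    (hN : normalizer (R : Set (Module.End F V)ˣ) ⊓ spSub ω ≤ H) (hH : H ≤ spSub ω)
    (hfull : Full (resForm ω ι) ((H.comap S.Blk).map (MonoidHom.fst _ _))) : Full ω H := by
  have : Finite W := Finite.of_injective ι S.inj
  have D1 := D.res S
  let K : Subgroup (Module.End F W)ˣ := H.comap (S.Blk.comp (MonoidHom.inl _ _))
  have hKmem : ∀ {g}, g ∈ K ↔ S.Blk (g, 1) ∈ H := Iff.rfl
  have hconj : ∀ g v c, IsTv (resForm ω ι) g v c → ∀ x ∈ K, g * x * g⁻¹ ∈ K := by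
    intro g v c hg x hx
    obtain ⟨⟨a, c'⟩, hac, rfl⟩ := hfull g v c hg
    have hac' : S.Blk (a, c') ∈ H := hac
    have := mul_mem (mul_mem hac' (hKmem.mp hx)) (inv_mem hac')
    rw [D.conj_Blk S, mul_one, mul_inv_cancel] at this
    exact this
  obtain ⟨b, hb, hb2, hb1, hbn⟩ := D1.exists_invol hk
  have hK : Full (resForm ω ι) K := full_of_involution D1.alt D1.nondeg D.two_ne hconj
    (hKmem.mpr (hN (D.Blk_one_mem S hb))) (D1.le hb) hb2 hb1 hbn
  have hR := D.le_of_normalizer_le hN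
  have hplus : ∀ g (y : W) (c : F), IsTv ω g (ι y) c → g ∈ H := by
    intro g y c hg
    have hm := hK _ y c (isTv_tv (resForm ω ι) D1.alt y c)
    rw [hKmem] at hm
    refine (IsTv.unique hg ?_).symm ▸ hm
    intro x
    refine S.ext_of (f := ((S.Blk (tv (resForm ω ι) D1.alt y c, 1) : (Module.End F V)ˣ) : Module.End F V))
      (g := 1 + c • LinearMap.smulRight (ω.flip (ι y)) (ι y)) (fun z => ?_) (fun z => ?_) x |>.trans ?_
    · rw [S.Blk_coe, isTv_tv (resForm ω ι) D1.alt y c z, map_add, map_smul, resForm_apply]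
      exact (tvEnd_apply ω (ι y) c (ι z)).symm
    · rw [S.Blk_U, Units.val_one, Module.End.one_apply]
      refine ((tvEnd_apply ω (ι y) c _).trans ?_).symm
      rw [D.form_cross' S, mul_zero, zero_smul, add_zero]
    · exact tvEnd_apply ω (ι y) c x
  obtain ⟨r, hr, hrs, hr2⟩ : ∃ r ∈ R, r * s = -(s * r) ∧ r * r = -1 := by
    rcases S.usq with e | e
    · refine ⟨u * s, mul_mem S.umem S.mem, ?_, ?_⟩
      · rw [S.anti, neg_mul, mul_assoc, S.anti]
      · calc u * s * (u * s) = u * (s * u) * s := by group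
          _ = -(u * u) * (s * s) := by
            rw [show s * u = -(u * s) by rw [S.anti, neg_neg], mul_neg, neg_mul, neg_mul]; group
          _ = -1 := by rw [e, S.sq, mul_one]
    · exact ⟨u, S.umem, S.anti, e⟩
  obtain ⟨a, ha, ha2⟩ := D1.exists_sq_neg (by omega)
  set t := S.Blk (a, a) with htdef
  have ht : t ∈ R := (D.mem_resR_iff S).mp ha
  have ht2 : t * t = -1 := by
    rw [htdef, ← map_mul, show ((a, a) * (a, a) : (Module.End F W)ˣ × (Module.End F W)ˣ) = (-1, -1) from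
      Prod.ext ha2 ha2, S.Blk_neg, show S.Blk (1, 1) = 1 from map_one S.Blk]
  have hn := D.pairElem_normalizer hr ht hr2 ht2
  refine full_of_eigen D S hH (hR S.umem) hplus (hN ⟨hn, D.pairElem_mem hr ht hr2 ht2⟩) ?_
  rw [pairElem_conj, tau_conj_of_comm D.two_ne ht2 (S.Blk_comm (a, a)),
    tau_conj_of_anti D.two_ne hr2 hrs, mul_assoc, S.sq, mul_one, ← mul_assoc,
    show s * r = -(r * s) by rw [hrs, neg_neg], neg_mul, neg_neg, mul_assoc, S.sq, mul_one]

omit D in
/-- The key argument on an abstract fixed space. -/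
theorem centralizer_or_full_aux {k : ℕ} {R : Subgroup (Module.End F V)ˣ} (D : Ext ω (k + 1) R) (hk : 2 ≤ k)
    {H : Subgroup (Module.End F V)ˣ}
    (hN : normalizer (R : Set (Module.End F V)ˣ) ⊓ spSub ω ≤ H) (hH : H ≤ spSub ω)
    {W : Type*} [AddCommGroup W] [Module F W] {s u : (Module.End F V)ˣ} {ι : W →ₗ[F] V} (S : Split R s u ι)
    (hcomp : ∀ a c, S.Blk (a, c) ∈ H → a ∈ normalizer (resR S : Set (Module.End F W)ˣ) ⊓ spSub (resForm ω ι))
    (comp : ∀ (s u : (Module.End F V)ˣ) (S : Split R s u (LinearMap.ker ((s : Module.End F V) - 1)).subtype),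
      (∀ a c, S.Blk (a, c) ∈ H → a ∈ normalizer (resR S : Set (Module.End F (LinearMap.ker ((s : Module.End F V) - 1) : Submodule F V))ˣ) ⊓
          spSub (resForm ω (LinearMap.ker ((s : Module.End F V) - 1)).subtype)) ∨ Full ω H) :
    (∀ h ∈ H, h * s = s * h → h ∈ normalizer (R : Set (Module.End F V)ˣ)) ∨ Full ω H := by
  by_contra! hcon
  obtain ⟨⟨h, hh, hhs, hhN⟩, hnf⟩ := hcon
  have hR := D.le_of_normalizer_le hN
  have : Finite W := Finite.of_injective ι S.inj
  have D1 := D.res S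
  have hu := S.umem
  have hs := S.mem
  have hswap : ∀ {a c : (Module.End F W)ˣ}, S.Blk (a, c) ∈ H → S.Blk (c, a) ∈ H := by
    intro a c hac
    rw [← S.Blk_swap]
    exact mul_mem (mul_mem (hR hu) hac) (inv_mem (hR hu))
  obtain ⟨a, c, rfl⟩ := S.exists_blk hhs
  have haN := hcomp a c hh
  have hcN := hcomp c a (hswap hh)
  set y : (Module.End F W)ˣ := a⁻¹ * c with hy
  have hy1 : S.Blk (y, 1) ∈ H := by
    have := hswap (show S.Blk (1, y) ∈ H from by
      have := mul_mem (inv_mem (hN (D.Blk_diag_mem S haN))) hh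
      rwa [← map_inv, ← map_mul, show ((a, a)⁻¹ * (a, c) : (Module.End F W)ˣ × (Module.End F W)ˣ) = (1, y) from
        Prod.ext (inv_mul_cancel a) rfl] at this)
    exact this
  have hyN : y ∈ normalizer (resR S : Set (Module.End F W)ˣ) ⊓ spSub (resForm ω ι) :=
    mul_mem (inv_mem haN) hcN
  have hyR : y ∉ resR S := by
    intro hyR
    refine hhN ?_
    have h1 := (D.Blk_one_mem S hyR).1
    have h2 : S.Blk (1, y) ∈ normalizer (R : Set (Module.End F V)ˣ) := by
      rw [← S.Blk_swap y 1]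
      exact mul_mem (mul_mem (le_normalizer hu) h1) (inv_mem (le_normalizer hu))
    have := mul_mem (D.Blk_diag_mem S haN).1 h2
    rwa [← map_mul, show ((a, a) * (1, y) : (Module.End F W)ˣ × (Module.End F W)ˣ) = (a, c) from
      Prod.ext (mul_one a) (mul_inv_cancel_left a c)] at this
  set H1 : Subgroup (Module.End F W)ˣ := normalizer (resR S : Set (Module.End F W)ˣ) ⊓ spSub (resForm ω ι)
    with hH1
  have hR1 : resR S ≤ H1 := le_inf le_normalizer D1.le
  let K : Subgroup (Module.End F W)ˣ := H.comap (S.Blk.comp (MonoidHom.inl _ _))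
  let M := (K.subgroupOf H1).map (proj H1)
  have : (K.subgroupOf H1).Normal := ⟨fun x hx g => by
    have hg := hN (D.Blk_diag_mem S g.2)
    have := mul_mem (mul_mem hg (show S.Blk ((x : (Module.End F W)ˣ), 1) ∈ H from hx)) (inv_mem hg)
    rw [D.conj_Blk S, mul_one, mul_inv_cancel] at this
    exact this⟩
  have hMn : M.Normal := Subgroup.Normal.map this _ (proj_surjective H1)
  have hQ := D1.quad hR1
  have htop : normalizer (bar (resR S) H1 : Set (H1 ⧸ (negs F W).subgroupOf H1)) = ⊤ := by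
    refine eq_top_iff.mpr fun g _ => ?_
    obtain ⟨x, rfl⟩ := proj_surjective H1 g
    exact (D1.normalizer_iff hR1).mpr x.2.1
  have hF := D1.fus (H := H1) le_rfl inf_le_right (fun _ _ _ _ _ x hx _ => hx.1)
  let y' : H1 := ⟨y, hyN⟩
  obtain ⟨x, hx, hxne⟩ : ∃ x ∈ bar (resR S) H1, proj H1 y' * x * (proj H1 y')⁻¹ ≠ x := by
    by_contra! hall
    refine hyR ((D1.mem_bar hR1 (x := y')).mp (hF.self ⟨by rw [htop]; trivial, ?_⟩))
    exact mem_centralizer_iff.mpr fun x hx => (mul_inv_eq_iff_eq_mul.mp (hall x hx)).symm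
  have hcard := D1.card_bar hR1
  obtain ⟨g, hg, b, hb, hb1, hqb, hgb, c₀, hc₀, hcb, hmv⟩ := hQ.exists_goodMove
    (by
      rcases Nat.eq_or_lt_of_le hk with e | e
      · exact Or.inr ⟨by rw [hcard, ← e]; rfl, D1.noSingularFour e.symm hR1⟩
      · left; rw [hcard]
        exact lt_of_lt_of_le (by norm_num) (Nat.pow_le_pow_right two_pos (show 6 ≤ 2 * k by omega)))
    (D1.fullPairs le_rfl) htop (M := M) (g := proj H1 y') ⟨y', hy1, rfl⟩ hx hxne
  obtain ⟨⟨b0, hb0'⟩, hb0, rfl⟩ := hb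
  obtain ⟨⟨c0, hc0'⟩, hc0, rfl⟩ := hc₀
  obtain ⟨⟨γ, hγ'⟩, hγ, rfl⟩ := hg
  replace hb0 : b0 ∈ resR S := hb0
  replace hc0 : c0 ∈ resR S := hc0
  replace hγ : S.Blk (γ, 1) ∈ H := hγ
  rw [D1.qbar_proj hR1 (show ((⟨b0, hb0'⟩ : H1) : (Module.End F W)ˣ) ∈ resR S from hb0), qR_zero_iff] at hqb
  replace hqb : b0 * b0 = 1 := hqb
  have hb01 : b0 ≠ 1 := by rintro rfl; exact hb1 (map_one _)
  have hb0n : b0 ≠ -1 := by
    rintro rfl
    exact hb1 (((map_one (proj H1)).symm.trans (proj_eq_iff.mpr (Or.inr rfl))).symm)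
  rw [D1.pol_proj hR1 (show ((⟨c0, hc0'⟩ : H1) : (Module.End F W)ˣ) ∈ resR S from hc0)
    (show ((⟨b0, hb0'⟩ : H1) : (Module.End F W)ˣ) ∈ resR S from hb0), bR_zero_iff] at hcb
  replace hcb : c0 * b0 = b0 * c0 := hcb
  set e := γ * c0 * γ⁻¹ with he
  have heR : e ∈ resR S := (mem_normalizer_iff.mp hγ'.1 c0).mp hc0
  rw [← map_inv, ← map_mul, ← map_mul] at hgb hmv
  rw [D1.pol_proj hR1 (show (((⟨γ, hγ'⟩ * ⟨c0, hc0'⟩ * ⟨γ, hγ'⟩⁻¹ : H1)) : (Module.End F W)ˣ) ∈ resR S from heR)
    (show ((⟨c0, hc0'⟩ : H1) : (Module.End F W)ˣ) ∈ resR S from hc0)] at hmv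
  replace hec : e * c0 = -(c0 * e) := (D1.bR_one_iff heR hc0).mp hmv
  rw [proj_eq_iff] at hgb
  replace hgb : b0 = γ * b0 * γ⁻¹ ∨ b0 = -(γ * b0 * γ⁻¹) := hgb
  -- adjust the sign
  obtain ⟨δ, hδ, hδb, hδc⟩ : ∃ δ, S.Blk (δ, 1) ∈ H ∧ δ * b0 = b0 * δ ∧
      (δ * c0 * δ⁻¹ = e ∨ δ * c0 * δ⁻¹ = -e) := by
    rcases hgb with h | h
    · exact ⟨γ, hγ, mul_inv_eq_iff_eq_mul.mp h.symm, Or.inl rfl⟩
    · obtain ⟨t, ht, htb⟩ := D1.anti_of_ne hb0 hb01 hb0n
      refine ⟨γ * t, ?_, ?_, ?_⟩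
      · have := mul_mem hγ (hN (D.Blk_one_mem S ht))
        rwa [← map_mul, show ((γ, 1) * (t, 1) : (Module.End F W)ˣ × (Module.End F W)ˣ) = (γ * t, 1) from
          Prod.ext rfl (mul_one 1)] at this
      · have h' : γ * b0 = -(b0 * γ) := by
          rw [← neg_mul]; exact mul_inv_eq_iff_eq_mul.mp (neg_eq_iff_eq_neg.mpr h).symm
        rw [mul_assoc, htb, mul_neg, ← mul_assoc, h', neg_mul, neg_neg, mul_assoc]
      · rw [show γ * t * c0 * (γ * t)⁻¹ = γ * (t * c0 * t⁻¹) * γ⁻¹ by group]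
        rcases D1.comm t ht c0 hc0 with f | f
        · left; rw [f, mul_inv_cancel_right]
        · right; rw [f, neg_mul, mul_inv_cancel_right, mul_neg, neg_mul]
  set z := S.Blk (δ, 1) with hz
  set b := S.Blk (b0, b0) with hbdef
  set C := S.Blk (c0, c0) with hC
  have hbR : b ∈ R := (D.mem_resR_iff S).mp hb0
  have hCR : C ∈ R := (D.mem_resR_iff S).mp hc0
  have hb2 : b * b = 1 := by
    rw [hbdef, ← map_mul, ← map_one S.Blk]; exact congrArg _ (Prod.ext hqb hqb)
  have hbne1 : b ≠ 1 := fun h => hb01 (S.Blk_inj (h.trans (map_one S.Blk).symm)).1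
  have hbnen : b ≠ -1 := fun h =>
    hb0n (S.Blk_inj (a' := -1) (c' := -1) (h.trans ((congrArg Neg.neg (map_one S.Blk).symm).trans (S.Blk_neg 1 1).symm))).1
  have hzb : z * b = b * z := by
    rw [hz, hbdef, ← map_mul, ← map_mul]; exact congrArg _ (Prod.ext hδb ((one_mul _).trans (mul_one _).symm))
  have hCb : C * b = b * C := by
    rw [hC, hbdef, ← map_mul, ← map_mul]; exact congrArg _ (Prod.ext hcb hcb)
  have hzC : z * C * z⁻¹ = S.Blk (δ * c0 * δ⁻¹, c0) := by
    rw [hz, hC, D.conj_Blk S, one_mul, inv_one, mul_one]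
  obtain ⟨v, hv, hvb⟩ := D.anti_of_ne hbR hbne1 hbnen
  have Sb := D.split hbR hv hb2 hvb
  refine (comp b v Sb).elim (fun hcompb => ?_) hnf
  obtain ⟨a', c', hz'⟩ := Sb.exists_blk hzb
  obtain ⟨cb, hcb', hC'⟩ := D.exists_resR Sb hCR hCb
  have ha' := hcompb a' c' (hz' ▸ hδ)
  have hd := (mem_normalizer_iff.mp ha'.1 cb).mp hcb'
  set d := a' * cb * a'⁻¹ with hddef
  set r := Sb.Blk (d, d)
  have hrR : r ∈ R := (D.mem_resR_iff Sb).mp hd
  have hfix : ∀ x : V, (b : Module.End F V) x = x → (r : Module.End F V) x = ((z * C * z⁻¹ : (Module.End F V)ˣ) : Module.End F V) x := by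
    intro x hx
    obtain ⟨w, rfl⟩ := Sb.surj x hx
    rcases hC' with h | h <;>
      rw [hz', h, D.conj_Blk Sb, Sb.Blk_coe, Sb.Blk_coe]
  have hε : ∀ y0 : W, (b0 : Module.End F W) y0 = y0 →
      (b : Module.End F V) (ι y0) = ι y0 ∧
      (b : Module.End F V) ((u : Module.End F V) (ι y0)) = (u : Module.End F V) (ι y0) := fun y0 h0 =>
    ⟨by rw [hbdef, S.Blk_coe, h0], by rw [hbdef, S.Blk_U, h0]⟩
  obtain ⟨y0, hy00, hy0⟩ : ∃ y0 : W, y0 ≠ 0 ∧ (b0 : Module.End F W) y0 = y0 := by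
    by_contra! h
    refine hb0n (Units.ext (LinearMap.ext fun x => ?_))
    have : x + (b0 : Module.End F W) x = 0 := by
      by_contra hne
      refine h _ hne ?_
      rw [map_add, ← Module.End.mul_apply, ← Units.val_mul, hqb, Units.val_one, Module.End.one_apply, add_comm]
    show (b0 : Module.End F W) x = -x
    exact eq_neg_of_add_eq_zero_right this
  have hrs : r * s = s * r := by
    refine (D.comm r hrR s hs).resolve_right fun hanti => hy00 ?_
    have h1 := hfix _ (hε y0 hy0).1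
    rw [hzC, S.Blk_coe] at h1
    have h2 : (r : Module.End F V) ((s : Module.End F V) (ι y0)) = -(s : Module.End F V) ((r : Module.End F V) (ι y0)) := by
      rw [← Module.End.mul_apply, ← Units.val_mul, hanti, Units.val_neg, LinearMap.neg_apply]; rfl
    rw [S.fix, h1, S.fix] at h2
    have h3 : (2 : F) • ι (((δ * c0 * δ⁻¹ : (Module.End F W)ˣ) : Module.End F W) y0) = 0 := by
      rw [two_smul]; nth_rewrite 1 [h2]; exact neg_add_cancel _
    have h4 := S.inj (((smul_eq_zero.mp h3).resolve_left D.two_ne).trans (map_zero _).symm)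
    have h5 := congrArg ((((δ * c0 * δ⁻¹)⁻¹ : (Module.End F W)ˣ)) : Module.End F W) h4
    rwa [uinv_u, map_zero] at h5
  obtain ⟨d', hd', hr'⟩ := D.exists_resR S hrR hrs
  obtain ⟨ε, hεc, hcd⟩ : ∃ ε : F, (ε = 1 ∨ ε = -1) ∧ ∀ y0 : W, (b0 : Module.End F W) y0 = y0 →
      ((e : (Module.End F W)ˣ) : Module.End F W) y0 = ε • (c0 : Module.End F W) y0 := by
    have hboth : ∀ y0 : W, (b0 : Module.End F W) y0 = y0 →
        (d' : Module.End F W) y0 = ((δ * c0 * δ⁻¹ : (Module.End F W)ˣ) : Module.End F W) y0 ∧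
        ((r = S.Blk (d', d') → (d' : Module.End F W) y0 = (c0 : Module.End F W) y0) ∧
          (r = S.Blk (d', -d') → -(d' : Module.End F W) y0 = (c0 : Module.End F W) y0)) := by
      intro y0 h0
      have h1 := hfix _ (hε y0 h0).1
      have h2 := hfix _ (hε y0 h0).2
      rw [hzC, S.Blk_coe] at h1
      rw [hzC, S.Blk_U] at h2
      refine ⟨S.inj ?_, fun hr => ?_, fun hr => ?_⟩
      · rcases hr' with hr | hr <;> rw [hr, S.Blk_coe] at h1 <;> exact h1
      · rw [hr, S.Blk_U] at h2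
        exact S.inj ((Function.LeftInverse.injective (uinv_u u)) h2)
      · rw [hr, S.Blk_U, Units.val_neg, LinearMap.neg_apply] at h2
        exact S.inj ((Function.LeftInverse.injective (uinv_u u)) h2)
    rcases hδc with hd1 | hd1 <;> rw [hd1] at hboth <;> rcases hr' with hr | hr
    · exact ⟨1, Or.inl rfl, fun y0 h0 => by
        obtain ⟨p, q, -⟩ := hboth y0 h0; rw [one_smul, ← q hr, p]⟩
    · exact ⟨-1, Or.inr rfl, fun y0 h0 => by
        obtain ⟨p, -, q⟩ := hboth y0 h0; rw [neg_one_smul, ← q hr, neg_neg, p]⟩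
    · exact ⟨-1, Or.inr rfl, fun y0 h0 => by
        obtain ⟨p, q, -⟩ := hboth y0 h0
        rw [neg_one_smul, ← q hr, p, Units.val_neg, LinearMap.neg_apply, neg_neg]⟩
    · exact ⟨1, Or.inl rfl, fun y0 h0 => by
        obtain ⟨p, -, q⟩ := hboth y0 h0
        rw [one_smul, ← q hr, p, Units.val_neg, LinearMap.neg_apply, neg_neg]⟩
  have hcy : (b0 : Module.End F W) ((c0 : Module.End F W) y0) = (c0 : Module.End F W) y0 := by
    rw [← Module.End.mul_apply, ← Units.val_mul, ← hcb, Units.val_mul, Module.End.mul_apply, hy0]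
  have h1 : (e : Module.End F W) ((c0 : Module.End F W) y0) = ε • (c0 : Module.End F W) ((c0 : Module.End F W) y0) :=
    hcd _ hcy
  have h2 : (c0 : Module.End F W) ((e : Module.End F W) y0) = ε • (c0 : Module.End F W) ((c0 : Module.End F W) y0) := by
    rw [hcd _ hy0, map_smul]
  have h3 : (e : Module.End F W) ((c0 : Module.End F W) y0) = -(c0 : Module.End F W) ((e : Module.End F W) y0) := by
    rw [← Module.End.mul_apply, ← Units.val_mul, hec, Units.val_neg, LinearMap.neg_apply]; rfl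
  rw [h1, h2] at h3
  have h4 : (2 : F) • ε • (c0 : Module.End F W) ((c0 : Module.End F W) y0) = 0 := by
    rw [two_smul]; nth_rewrite 1 [h3]; exact neg_add_cancel _
  have hε0 : ε ≠ 0 := by rcases hεc with rfl | rfl <;> norm_num
  have h5 := ((smul_eq_zero.mp ((smul_eq_zero.mp h4).resolve_left D.two_ne)).resolve_left hε0)
  have h6 := congrArg ((c0⁻¹ : (Module.End F W)ˣ) : Module.End F W) h5
  rw [uinv_u, map_zero] at h6
  have h7 := congrArg ((c0⁻¹ : (Module.End F W)ˣ) : Module.End F W) h6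
  rw [uinv_u, map_zero] at h7
  exact hy00 h7

omit D in
/-- The centraliser of an involution normalises the group, or everything is reached. -/
theorem centralizer_or_full {k : ℕ} {R : Subgroup (Module.End F V)ˣ} (D : Ext ω (k + 1) R) (hk : 2 ≤ k)
    (hIH : LowerStep ω R) {H : Subgroup (Module.End F V)ˣ}
    (hN : normalizer (R : Set (Module.End F V)ˣ) ⊓ spSub ω ≤ H) (hH : H ≤ spSub ω)
    {s : (Module.End F V)ˣ} (hs : s ∈ R) (hs2 : s * s = 1) (hs1 : s ≠ 1) (hsn : s ≠ -1) :
    (∀ h ∈ H, h * s = s * h → h ∈ normalizer (R : Set (Module.End F V)ˣ)) ∨ Full ω H := by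
  have comp : ∀ (s u : (Module.End F V)ˣ) (S : Split R s u (LinearMap.ker ((s : Module.End F V) - 1)).subtype),
      (∀ a c, S.Blk (a, c) ∈ H → a ∈ normalizer (resR S : Set (Module.End F (LinearMap.ker ((s : Module.End F V) - 1) : Submodule F V))ˣ) ⊓
          spSub (resForm ω (LinearMap.ker ((s : Module.End F V) - 1)).subtype)) ∨ Full ω H := by
    intro s u S
    have hsp := fun a c (h : S.Blk (a, c) ∈ H) => ((D.Blk_mem_spSub S).mp (hH h)).1
    rcases hIH s u S ((H.comap S.Blk).map (MonoidHom.fst _ _))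
      (fun g hg => ⟨(g, g), hN (D.Blk_diag_mem S hg), rfl⟩)
      (by rintro _ ⟨⟨a, c⟩, h, rfl⟩; exact hsp a c h) with h | h
    · exact Or.inl fun a c hac => ⟨h ⟨(a, c), hac, rfl⟩, hsp a c hac⟩
    · exact Or.inr (D.full_of_full_comp hk S hN hH h)
  obtain ⟨u, hu, hus⟩ := D.anti_of_ne hs hs1 hsn
  have S := D.split hs hu hs2 hus
  exact (comp s u S).elim (fun hcomp => D.centralizer_or_full_aux hk hN hH S hcomp comp) Or.inr


end Dichotomy

end Ext

end Cfsg.Agent.Lib.Sym78
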